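import Groth.Prelude.Def_Isoc
import Mathlib.RingTheory.WittVector.Complete
import Mathlib.LinearAlgebra.Basis.Submodule
import Mathlib.LinearAlgebra.FreeModule.Finite.Basic
import Mathlib.RingTheory.PrincipalIdealDomain
import Mathlib.RingTheory.Finiteness.Basic
import Mathlib.RingTheory.Noetherian.Basic
import Mathlib.Tactic.Ring
import Mathlib.LinearAlgebra.Dimension.Finite
import Mathlib.LinearAlgebra.FiniteDimensional.Basic

/-!
# Isocrystals: scalars, lattices, images of lattices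
-/

set_option autoImplicit false
set_option linter.style.haveILetI false

universe u v

noncomputable section

open scoped Pointwise

namespace Groth.Agent.IsocLib

variable {p : ℕ} [Fact p.Prime] {k : Type u} [Field k] [CharP k p] [PerfectRing k p]

local notation "W" => WittVector p k
local notation "L" => FractionRing (WittVector p k)
local notation "ι" => algebraMap (WittVector p k) (FractionRing (WittVector p k))

/-- An endomorphism of `L` preserving `W`, onto. -/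
class Good (τ : L →+* L) : Prop where
  map_int : ∀ w : W, ∃ w' : W, τ (ι w) = ι w'
  surj_int : ∀ w' : W, ∃ w : W, τ (ι w) = ι w'

instance good_frob (a : ℤ) : Good (Isoc.frob p k a) where
  map_int w := ⟨_, Isoc.frob_algebraMap p k a w⟩
  surj_int w' := ⟨(WittVector.frobeniusEquiv p k ^ a).symm w', by
    rw [Isoc.frob_algebraMap, RingEquiv.apply_symm_apply]⟩

instance good_id : Good (RingHom.id L) where
  map_int w := ⟨w, rfl⟩
  surj_int w := ⟨w, rfl⟩

theorem Good.comp (τ σ : L →+* L) [Good τ] [Good σ] : Good (τ.comp σ) where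
  map_int w := by
    obtain ⟨w₁, h₁⟩ := Good.map_int (τ := σ) w
    obtain ⟨w₂, h₂⟩ := Good.map_int (τ := τ) w₁
    exact ⟨w₂, by rw [RingHom.comp_apply, h₁, h₂]⟩
  surj_int w := by
    obtain ⟨w₁, h₁⟩ := Good.surj_int (τ := τ) w
    obtain ⟨w₂, h₂⟩ := Good.surj_int (τ := σ) w₁
    exact ⟨w₂, by rw [RingHom.comp_apply, h₂, h₁]⟩

instance good_pow (τ : L →+* L) [Good τ] (n : ℕ) : Good (τ ^ n) := by
  induction n with
  | zero => rw [pow_zero]; exact good_id
  | succ n ih =>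
    rw [pow_succ]
    exact Good.comp (τ ^ n) τ

theorem p_ne_zero : (p : W) ≠ 0 := (WittVector.irreducible p (k := k)).ne_zero

theorem pL_ne_zero : (p : L) ≠ 0 := by
  rw [← map_natCast ι]
  exact fun h => p_ne_zero (p := p) (k := k) (IsFractionRing.injective W L (h.trans (map_zero _).symm))

theorem zpow_ne (r : ℤ) : (p : L) ^ r ≠ 0 := zpow_ne_zero _ pL_ne_zero

theorem ι_pow (n : ℕ) : ι ((p : W) ^ n) = (p : L) ^ (n : ℤ) := by
  rw [map_pow, map_natCast, zpow_natCast]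

theorem map_zpow_p (τ : L →+* L) (r : ℤ) : τ ((p : L) ^ r) = (p : L) ^ r := by
  rw [map_zpow₀, map_natCast]

theorem Good.surjective (τ : L →+* L) [Good τ] : Function.Surjective τ := by
  intro c
  obtain ⟨a, b, -, rfl⟩ := IsFractionRing.div_surjective (A := W) c
  obtain ⟨a', ha⟩ := Good.surj_int (τ := τ) a
  obtain ⟨b', hb⟩ := Good.surj_int (τ := τ) b
  exact ⟨ι a' / ι b', by rw [map_div₀, ha, hb]⟩

theorem Good.map_unit (τ : L →+* L) [Good τ] (u : Wˣ) : ∃ u' : Wˣ, τ (ι u) = ι u' := by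
  obtain ⟨w, hw⟩ := Good.map_int (τ := τ) (u : W)
  obtain ⟨w', hw'⟩ := Good.map_int (τ := τ) (↑u⁻¹ : W)
  have h : w * w' = 1 := IsFractionRing.injective W L (by
    rw [map_mul, ← hw, ← hw', ← map_mul, ← map_mul, u.mul_inv]
    simp)
  exact ⟨⟨w, w', h, by rw [mul_comm, h]⟩, hw⟩

/-! ### orders of scalars -/

theorem exists_isOrdP {c : L} (hc : c ≠ 0) : ∃ r, Isoc.IsOrdP c r := by
  obtain ⟨a, b, hb, rfl⟩ := IsFractionRing.div_surjective (A := W) c
  have ha : a ≠ 0 := fun h => hc (by rw [h, map_zero, zero_div])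
  obtain ⟨m, u, rfl⟩ := WittVector.exists_eq_pow_p_mul' a ha
  obtain ⟨n, v, rfl⟩ := WittVector.exists_eq_pow_p_mul' b (nonZeroDivisors.ne_zero hb)
  refine ⟨(m : ℤ) - n, u * v⁻¹, ?_⟩
  rw [map_mul, map_mul, ι_pow, ι_pow, mul_div_mul_comm, ← zpow_sub₀ pL_ne_zero, Units.val_mul, map_mul,
    map_units_inv, div_eq_mul_inv (ι (u : W))]

theorem ne_zero_of_isOrdP {c : L} {r : ℤ} (h : Isoc.IsOrdP c r) : c ≠ 0 := by
  obtain ⟨u, rfl⟩ := h
  exact mul_ne_zero (zpow_ne r) ((u.isUnit.map ι).ne_zero)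

theorem isOrdP_zpow (r : ℤ) : Isoc.IsOrdP ((p : L) ^ r) r :=
  ⟨1, by rw [Units.val_one, map_one, mul_one]⟩

theorem isOrdP_one : Isoc.IsOrdP (1 : L) 0 := by simpa using isOrdP_zpow (p := p) (k := k) 0

theorem isOrdP_mul {c c' : L} {r r' : ℤ} (h : Isoc.IsOrdP c r) (h' : Isoc.IsOrdP c' r') :
    Isoc.IsOrdP (c * c') (r + r') := by
  obtain ⟨u, rfl⟩ := h
  obtain ⟨v, rfl⟩ := h'
  exact ⟨u * v, by rw [Units.val_mul, map_mul, zpow_add₀ pL_ne_zero]; ring⟩

theorem isOrdP_pow {c : L} {r : ℤ} (h : Isoc.IsOrdP c r) (n : ℕ) : Isoc.IsOrdP (c ^ n) (n * r) := by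
  induction n with
  | zero => simpa using isOrdP_one
  | succ n ih =>
    rw [pow_succ, Nat.cast_succ, add_mul, one_mul]
    exact isOrdP_mul ih h

theorem isOrdP_map (τ : L →+* L) [Good τ] {c : L} {r : ℤ} (h : Isoc.IsOrdP c r) :
    Isoc.IsOrdP (τ c) r := by
  obtain ⟨u, rfl⟩ := h
  obtain ⟨u', hu⟩ := Good.map_unit τ u
  exact ⟨u', by rw [map_mul, map_zpow_p, hu]⟩

theorem le_of_isOrdP_mem {c : L} {r e : ℤ} (h : Isoc.IsOrdP c e) {w : W}
    (hw : c = (p : L) ^ r * ι w) : r ≤ e := by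
  by_contra hlt
  obtain ⟨u, rfl⟩ := h
  obtain ⟨n, hn⟩ : ∃ n : ℕ, r = e + (n + 1 : ℕ) := ⟨(r - e - 1).toNat, by omega⟩
  rw [hn, zpow_add₀ pL_ne_zero, mul_assoc, mul_right_inj' (zpow_ne e), ← ι_pow, ← map_mul] at hw
  have hu := IsFractionRing.injective W L hw
  have : IsUnit ((p : W) ^ (n + 1) * w) := hu ▸ u.isUnit
  exact (WittVector.irreducible p (k := k)).not_isUnit
    ((isUnit_pow_iff (Nat.succ_ne_zero n)).mp (isUnit_of_mul_isUnit_left this))

theorem isOrdP_unique {c : L} {r r' : ℤ} (h : Isoc.IsOrdP c r) (h' : Isoc.IsOrdP c r') : r = r' := by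
  obtain ⟨u, hu⟩ := h
  obtain ⟨u', hu'⟩ := h'
  exact le_antisymm (le_of_isOrdP_mem ⟨u', hu'⟩ hu) (le_of_isOrdP_mem ⟨u, hu⟩ hu')

theorem exists_ι_zpow_mul {m : ℤ} (hm : 0 ≤ m) (w : W) : ∃ w' : W, (p : L) ^ m * ι w = ι w' :=
  ⟨(p : W) ^ m.toNat * w, by rw [map_mul, ι_pow, Int.toNat_of_nonneg hm]⟩

theorem isUnit_of_isOrdP_zero {w : W} (h : Isoc.IsOrdP (ι w) 0) : IsUnit w := by
  obtain ⟨u, hu⟩ := h
  rw [zpow_zero, one_mul] at hu
  exact IsFractionRing.injective W L hu ▸ u.isUnit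

/-! ### submodules -/

variable {N : Type v} [AddCommGroup N] [Module (WittVector p k) N]
  [Module (FractionRing (WittVector p k)) N]
  [IsScalarTower (WittVector p k) (FractionRing (WittVector p k)) N]

theorem mem_pPow {r : ℤ} {M : Submodule W N} {x : N} :
    x ∈ Isoc.pPow r M ↔ (p : L) ^ (-r) • x ∈ M := by
  rw [Isoc.pPow, Submodule.mem_smul_pointwise_iff_exists]
  constructor
  · rintro ⟨y, hy, rfl⟩
    rwa [smul_smul, ← zpow_add₀ pL_ne_zero, neg_add_cancel, zpow_zero, one_smul]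
  · intro h
    exact ⟨_, h, by rw [smul_smul, ← zpow_add₀ pL_ne_zero, add_neg_cancel, zpow_zero, one_smul]⟩

theorem smul_mem_pPow {r : ℤ} {M : Submodule W N} {x : N} (hx : x ∈ M) :
    (p : L) ^ r • x ∈ Isoc.pPow r M := by
  rw [mem_pPow, smul_smul, ← zpow_add₀ pL_ne_zero, neg_add_cancel, zpow_zero, one_smul]; exact hx

@[simp] theorem pPow_zero (M : Submodule W N) : Isoc.pPow 0 M = M := by
  ext x; simp [mem_pPow]

theorem pPow_pPow (r s : ℤ) (M : Submodule W N) : Isoc.pPow r (Isoc.pPow s M) = Isoc.pPow (r + s) M := by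
  ext x
  rw [mem_pPow, mem_pPow, mem_pPow, smul_smul, ← zpow_add₀ pL_ne_zero, neg_add, add_comm]

theorem pPow_mono (r : ℤ) {M M' : Submodule W N} (h : M ≤ M') : Isoc.pPow r M ≤ Isoc.pPow r M' :=
  fun x hx => mem_pPow.mpr (h (mem_pPow.mp hx))

theorem pPow_le_pPow_iff {r : ℤ} {M M' : Submodule W N} : Isoc.pPow r M ≤ Isoc.pPow r M' ↔ M ≤ M' := by
  refine ⟨fun h => ?_, pPow_mono r⟩
  have := pPow_mono (-r) h
  rwa [pPow_pPow, pPow_pPow, neg_add_cancel, pPow_zero, pPow_zero] at this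

theorem zpow_smul_mem {m : ℤ} (hm : 0 ≤ m) {M : Submodule W N} {x : N} (hx : x ∈ M) :
    (p : L) ^ m • x ∈ M := by
  obtain ⟨n, rfl⟩ := Int.eq_ofNat_of_zero_le hm
  rw [← ι_pow, IsScalarTower.algebraMap_smul]
  exact M.smul_mem _ hx

theorem pPow_anti {r r' : ℤ} (h : r ≤ r') (M : Submodule W N) : Isoc.pPow r' M ≤ Isoc.pPow r M := by
  intro x hx
  rw [mem_pPow] at hx ⊢
  have := zpow_smul_mem (p := p) (m := r' - r) (by omega) hx
  rwa [smul_smul, ← zpow_add₀ pL_ne_zero, show r' - r + -r' = -r by ring] at this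

theorem pPow_sup (r : ℤ) (M M' : Submodule W N) :
    Isoc.pPow r (M ⊔ M') = Isoc.pPow r M ⊔ Isoc.pPow r M' := by
  refine le_antisymm ?_ (sup_le (pPow_mono r le_sup_left) (pPow_mono r le_sup_right))
  intro x hx
  obtain ⟨y, hy, z, hz, h⟩ := Submodule.mem_sup.mp (mem_pPow.mp hx)
  refine Submodule.mem_sup.mpr ⟨_, smul_mem_pPow hy, _, smul_mem_pPow hz, ?_⟩
  rw [← smul_add, h, smul_smul, ← zpow_add₀ pL_ne_zero, add_neg_cancel, zpow_zero, one_smul]

/-! ### semilinear maps -/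

variable {τ : FractionRing (WittVector p k) →+* FractionRing (WittVector p k)}

theorem map_zpow_smul (F : N →ₛₗ[τ] N) (r : ℤ) (x : N) : F ((p : L) ^ r • x) = (p : L) ^ r • F x := by
  rw [map_smulₛₗ, map_zpow_p]

theorem iterate_map_smul (F : N →ₛₗ[τ] N) (n : ℕ) (c : L) (x : N) :
    (⇑F)^[n] (c • x) = (τ ^ n) c • (⇑F)^[n] x :=
  (Isoc.iter F n).map_smulₛₗ c x

theorem iterate_map_zpow_smul (F : N →ₛₗ[τ] N) (n : ℕ) (r : ℤ) (x : N) :
    (⇑F)^[n] ((p : L) ^ r • x) = (p : L) ^ r • (⇑F)^[n] x :=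
  map_zpow_smul (Isoc.iter F n) r x

theorem map_wsmul [Good τ] (F : N →ₛₗ[τ] N) (w : W) : ∃ w' : W, ∀ x, F (w • x) = w' • F x := by
  obtain ⟨w', hw'⟩ := Good.map_int (τ := τ) w
  refine ⟨w', fun x => ?_⟩
  rw [← IsScalarTower.algebraMap_smul L w x, map_smulₛₗ, hw', IsScalarTower.algebraMap_smul]

theorem exists_map_wsmul_eq [Good τ] (F : N →ₛₗ[τ] N) (w' : W) : ∃ w : W, ∀ x, F (w • x) = w' • F x := by
  obtain ⟨w, hw⟩ := Good.surj_int (τ := τ) w'
  refine ⟨w, fun x => ?_⟩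
  rw [← IsScalarTower.algebraMap_smul L w x, map_smulₛₗ, hw, IsScalarTower.algebraMap_smul]

/-- The image of a submodule. -/
def imgSub [Good τ] (F : N →ₛₗ[τ] N) (M : Submodule W N) : Submodule W N where
  carrier := F '' M
  zero_mem' := ⟨0, M.zero_mem, map_zero F⟩
  add_mem' := by
    rintro _ _ ⟨x, hx, rfl⟩ ⟨y, hy, rfl⟩
    exact ⟨x + y, M.add_mem hx hy, map_add F x y⟩
  smul_mem' := by
    rintro w' _ ⟨x, hx, rfl⟩
    obtain ⟨w, hw⟩ := exists_map_wsmul_eq F w'
    exact ⟨w • x, M.smul_mem w hx, hw x⟩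

theorem mem_latImg [Good τ] {F : N →ₛₗ[τ] N} {s : ℕ} {M : Submodule W N} {x : N} :
    x ∈ Isoc.latImg F s M ↔ ∃ y ∈ M, (⇑F)^[s] y = x := by
  refine ⟨fun h => ?_, fun ⟨y, hy, e⟩ => Submodule.subset_span ⟨y, hy, e⟩⟩
  have : Isoc.latImg F s M ≤ imgSub (Isoc.iter F s) M := Submodule.span_le.mpr subset_rfl
  exact this h

theorem latImg_le_iff {F : N →ₛₗ[τ] N} {s : ℕ} {M X : Submodule W N} :
    Isoc.latImg F s M ≤ X ↔ ∀ y ∈ M, (⇑F)^[s] y ∈ X := by
  rw [Isoc.latImg, Submodule.span_le, Set.image_subset_iff]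
  rfl

theorem latImg_one_le_iff {F : N →ₛₗ[τ] N} {M X : Submodule W N} :
    Isoc.latImg F 1 M ≤ X ↔ ∀ y ∈ M, F y ∈ X := latImg_le_iff

theorem latImg_mono {F : N →ₛₗ[τ] N} {s : ℕ} {M M' : Submodule W N} (h : M ≤ M') :
    Isoc.latImg F s M ≤ Isoc.latImg F s M' :=
  Submodule.span_mono (Set.image_mono h)

theorem iterate_mem_latImg {F : N →ₛₗ[τ] N} {s : ℕ} {M : Submodule W N} {x : N} (hx : x ∈ M) :
    (⇑F)^[s] x ∈ Isoc.latImg F s M := Submodule.subset_span ⟨x, hx, rfl⟩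

theorem latImg_zero (F : N →ₛₗ[τ] N) (M : Submodule W N) : Isoc.latImg F 0 M = M := by
  simp [Isoc.latImg]

theorem latImg_add [Good τ] (F : N →ₛₗ[τ] N) (s t : ℕ) (M : Submodule W N) :
    Isoc.latImg F (s + t) M = Isoc.latImg F s (Isoc.latImg F t M) := by
  ext x
  simp only [mem_latImg, Function.iterate_add_apply]
  exact ⟨fun ⟨y, hy, e⟩ => ⟨_, ⟨y, hy, rfl⟩, e⟩, fun ⟨_, ⟨y, hy, h⟩, e⟩ => ⟨y, hy, h.symm ▸ e⟩⟩

theorem latImg_pPow [Good τ] (F : N →ₛₗ[τ] N) (s : ℕ) (r : ℤ) (M : Submodule W N) :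
    Isoc.latImg F s (Isoc.pPow r M) = Isoc.pPow r (Isoc.latImg F s M) := by
  ext x
  simp only [mem_pPow, mem_latImg]
  constructor
  · rintro ⟨y, hy, rfl⟩
    exact ⟨_, hy, iterate_map_zpow_smul F s _ y⟩
  · rintro ⟨y, hy, e⟩
    refine ⟨(p : L) ^ r • y, ?_, ?_⟩
    · rwa [smul_smul, ← zpow_add₀ pL_ne_zero, neg_add_cancel, zpow_zero, one_smul]
    · rw [iterate_map_zpow_smul, e, smul_smul, ← zpow_add₀ pL_ne_zero, add_neg_cancel, zpow_zero, one_smul]

theorem latImg_sup [Good τ] (F : N →ₛₗ[τ] N) (s : ℕ) (M M' : Submodule W N) :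
    Isoc.latImg F s (M ⊔ M') = Isoc.latImg F s M ⊔ Isoc.latImg F s M' := by
  refine le_antisymm (latImg_le_iff.mpr ?_) (sup_le (latImg_mono le_sup_left) (latImg_mono le_sup_right))
  intro x hx
  obtain ⟨y, hy, z, hz, rfl⟩ := Submodule.mem_sup.mp hx
  rw [← Isoc.iter_apply, map_add]
  exact Submodule.add_mem_sup (iterate_mem_latImg hy) (iterate_mem_latImg hz)

/-- The normalised iterate `p^(-r) F^s`. -/
abbrev norIter (F : N →ₛₗ[τ] N) (r : ℤ) (s : ℕ) : N →ₛₗ[τ ^ s] N := (p : L) ^ (-r) • Isoc.iter F s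

theorem norIter_apply (F : N →ₛₗ[τ] N) (r : ℤ) (s : ℕ) (x : N) :
    norIter F r s x = (p : L) ^ (-r) • (⇑F)^[s] x := rfl

theorem norIter_iterate (F : N →ₛₗ[τ] N) (r : ℤ) (s j : ℕ) (x : N) :
    (⇑(norIter F r s))^[j] x = (p : L) ^ (-((j : ℤ) * r)) • (⇑F)^[s * j] x := by
  induction j with
  | zero => simp
  | succ j ih =>
    rw [Function.iterate_succ_apply', ih, norIter_apply, iterate_map_zpow_smul, smul_smul,
      ← zpow_add₀ pL_ne_zero, ← Function.iterate_add_apply, Nat.cast_succ, mul_add, mul_one, add_comm s]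
    congr 2
    ring

theorem latImg_norIter [Good τ] (F : N →ₛₗ[τ] N) (r : ℤ) (s j : ℕ) (M : Submodule W N) :
    Isoc.latImg (norIter F r s) j M = Isoc.pPow (-((j : ℤ) * r)) (Isoc.latImg F (s * j) M) := by
  ext x
  rw [mem_latImg, mem_pPow]
  simp only [mem_latImg, norIter_iterate, neg_neg]
  constructor
  · rintro ⟨y, hy, rfl⟩
    exact ⟨y, hy, by rw [smul_smul, ← zpow_add₀ pL_ne_zero, add_neg_cancel, zpow_zero, one_smul]⟩
  · rintro ⟨y, hy, e⟩
    exact ⟨y, hy, by rw [e, smul_smul, ← zpow_add₀ pL_ne_zero, neg_add_cancel, zpow_zero, one_smul]⟩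

theorem latImg_le_pPow_iff [Good τ] (F : N →ₛₗ[τ] N) (r : ℤ) (s : ℕ) (M : Submodule W N) :
    Isoc.latImg F s M ≤ Isoc.pPow r M ↔ Isoc.latImg (norIter F r s) 1 M ≤ M := by
  conv_rhs => rw [latImg_norIter, Nat.cast_one, one_mul, mul_one, ← pPow_le_pPow_iff (r := r), pPow_pPow,
    add_neg_cancel, pPow_zero]

theorem latImg_eq_pPow_iff [Good τ] (F : N →ₛₗ[τ] N) (r : ℤ) (s : ℕ) (M : Submodule W N) :
    Isoc.latImg F s M = Isoc.pPow r M ↔ Isoc.latImg (norIter F r s) 1 M = M := by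
  rw [latImg_norIter, Nat.cast_one, one_mul, mul_one]
  constructor
  · intro h; rw [h, pPow_pPow, neg_add_cancel, pPow_zero]
  · intro h
    conv_rhs => rw [← h, pPow_pPow, add_neg_cancel, pPow_zero]

theorem norIter_bijective {F : N →ₛₗ[τ] N} (hF : Function.Bijective F) (r : ℤ) (s : ℕ) :
    Function.Bijective (norIter F r s) := by
  refine Function.Bijective.comp (g := fun x : N => (p : L) ^ (-r) • x) ?_ (hF.iterate s)
  exact ⟨smul_right_injective N (zpow_ne _), fun y => ⟨((p : L) ^ (-r))⁻¹ • y, smul_inv_smul₀ (zpow_ne _) y⟩⟩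

theorem isIsoc_norIter {F : N →ₛₗ[τ] N} (hF : Isoc.IsIsoc F) (r : ℤ) (s : ℕ) :
    Isoc.IsIsoc (norIter F r s) :=
  ⟨hF.finite, norIter_bijective hF.bijective r s⟩

/-! ### lattices -/

theorem fg_span_image [Good τ] (F : N →ₛₗ[τ] N) (s : ℕ) {M : Submodule W N} (h : M.FG) :
    (Isoc.latImg F s M).FG := by
  obtain ⟨S, hS⟩ := h
  have : Isoc.latImg F s M = Submodule.span W ((⇑F)^[s] '' (S : Set N)) := by
    refine le_antisymm (latImg_le_iff.mpr fun x hx => ?_) (Submodule.span_mono (Set.image_mono ?_))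
    · rw [← hS] at hx
      induction hx using Submodule.span_induction with
      | mem y hy => exact Submodule.subset_span ⟨y, hy, rfl⟩
      | zero => rw [← Isoc.iter_apply, map_zero]; exact Submodule.zero_mem _
      | add y z _ _ hy hz => rw [← Isoc.iter_apply, map_add]; exact Submodule.add_mem _ hy hz
      | smul w y _ hy =>
        obtain ⟨w', hw'⟩ := map_wsmul (Isoc.iter F s) w
        rw [← Isoc.iter_apply, hw']
        exact Submodule.smul_mem _ _ hy
    · exact hS ▸ Submodule.subset_span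
  rw [this]
  exact Submodule.fg_span (S.finite_toSet.image _)

theorem isLattice_latImg [Good τ] {F : N →ₛₗ[τ] N} (hF : Function.Surjective F) (s : ℕ)
    {M : Submodule W N} (hM : M.IsLattice L) : (Isoc.latImg F s M).IsLattice L := by
  refine ⟨fg_span_image F s hM.fg, eq_top_iff.mpr fun x htriv => ?_⟩
  clear htriv
  obtain ⟨y, rfl⟩ := hF.iterate s x
  have hy : y ∈ Submodule.span L (M : Set N) := hM.span_eq_top ▸ trivial
  induction hy using Submodule.span_induction with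
  | mem z hz => exact Submodule.subset_span (iterate_mem_latImg hz)
  | zero => rw [← Isoc.iter_apply, map_zero]; exact Submodule.zero_mem _
  | add a b _ _ ha hb => rw [← Isoc.iter_apply, map_add]; exact Submodule.add_mem _ ha hb
  | smul c a _ ha => rw [iterate_map_smul]; exact Submodule.smul_mem _ _ ha

theorem isLattice_pPow (r : ℤ) {M : Submodule W N} (hM : M.IsLattice L) :
    (Isoc.pPow r M).IsLattice L := by
  refine ⟨hM.fg.map _, eq_top_iff.mpr fun x _ => ?_⟩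
  have hx : (p : L) ^ (-r) • x ∈ Submodule.span L (M : Set N) := hM.span_eq_top ▸ trivial
  have h : x = (p : L) ^ r • ((p : L) ^ (-r) • x) := by
    rw [smul_smul, ← zpow_add₀ pL_ne_zero, add_neg_cancel, zpow_zero, one_smul]
  rw [h]
  generalize (p : L) ^ (-r) • x = z at hx
  induction hx using Submodule.span_induction with
  | mem z hz => exact Submodule.subset_span (smul_mem_pPow hz)
  | zero => rw [smul_zero]; exact Submodule.zero_mem _
  | add a b _ _ ha hb => rw [smul_add]; exact Submodule.add_mem _ ha hb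
  | smul c a _ ha => rw [smul_comm]; exact Submodule.smul_mem _ _ ha

theorem isLattice_sup {M M' : Submodule W N} (hM : M.IsLattice L) (hM' : M'.IsLattice L) :
    (M ⊔ M').IsLattice L :=
  Submodule.IsLattice.sup L M M'

theorem isLattice_of_le {M M' : Submodule W N} (hM : M.IsLattice L) (h : M ≤ M') (hfg : M'.FG) :
    M'.IsLattice L :=
  Submodule.IsLattice.of_le_of_isLattice_of_fg L h hfg

theorem isLattice_span_range {n : ℕ} (b : Module.Basis (Fin n) L N) :
    (Submodule.span W (Set.range b)).IsLattice L :=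
  ⟨Submodule.fg_span (Set.finite_range b), by rw [Submodule.span_span_of_tower, b.span_eq]⟩

theorem exists_basis [Module.Finite L N] {M : Submodule W N} (hM : M.IsLattice L) :
    ∃ b : Module.Basis (Fin (Module.finrank L N)) L N, M = Submodule.span W (Set.range b) := by
  haveI := hM
  haveI : Module.IsTorsionFree W L :=
    Function.Injective.moduleIsTorsionFree (algebraMap L L) Function.injective_id fun _ _ => rfl
  let b₀ := Module.Free.chooseBasis W M
  let b := b₀.extendOfIsLattice L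
  have hcard : Fintype.card (Module.Free.ChooseBasisIndex W M) = Module.finrank L N :=
    (Module.finrank_eq_card_basis b).symm
  let e := Fintype.equivFinOfCardEq hcard
  refine ⟨b.reindex e, ?_⟩
  rw [Module.Basis.range_reindex]
  have : Set.range b = M.subtype '' Set.range b₀ := by
    rw [← Set.range_comp]; exact congrArg Set.range (funext fun i => by simp [b])
  rw [this, Submodule.span_image, b₀.span_eq, Submodule.map_subtype_top]

theorem exists_le_pPow [Module.Finite L N] {M X : Submodule W N} (hM : M.IsLattice L) (hX : X.FG) :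
    ∃ c : ℤ, X ≤ Isoc.pPow c M := by
  classical
  obtain ⟨S, rfl⟩ := hX
  obtain ⟨b, rfl⟩ := exists_basis hM
  have h1 : ∀ x : N, ∃ c : ℤ, x ∈ Isoc.pPow c (Submodule.span W (Set.range b)) := by
    intro x
    have h2 : ∀ i, ∃ c : ℤ, ∃ w : W, (p : L) ^ (-c) * b.repr x i = ι w := by
      intro i
      rcases eq_or_ne (b.repr x i) 0 with h | h
      · exact ⟨0, 0, by simp [h]⟩
      · obtain ⟨r, u, hu⟩ := exists_isOrdP h
        exact ⟨r, u, by rw [hu, ← mul_assoc, ← zpow_add₀ pL_ne_zero, neg_add_cancel, zpow_zero, one_mul]⟩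
    choose c w hw using h2
    obtain ⟨c₀, hc₀⟩ : ∃ c₀, ∀ i, c₀ ≤ c i := (Finite.exists_le fun i => -c i).elim fun m hm => ⟨-m, fun i => by have := hm i; omega⟩
    refine ⟨c₀, mem_pPow.mpr ((b.mem_span_iff_repr_mem W _).mpr fun i => ?_)⟩
    rw [map_smul, Finsupp.smul_apply, smul_eq_mul]
    obtain ⟨w', hw'⟩ := exists_ι_zpow_mul (p := p) (m := c i - c₀) (by have := hc₀ i; omega) (w i)
    refine ⟨w', ?_⟩
    rw [← hw', ← hw, ← mul_assoc, ← zpow_add₀ pL_ne_zero]
    congr 2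
    ring
  choose c hc using h1
  obtain ⟨c₀, hc₀⟩ : ∃ c₀, ∀ i : S, c₀ ≤ c i.1 :=
    (Finite.exists_le fun i : S => -c i.1).elim fun m hm => ⟨-m, fun i => by have := hm i; omega⟩
  exact ⟨c₀, Submodule.span_le.mpr fun x hx => pPow_anti (hc₀ ⟨x, hx⟩) _ (hc x)⟩

theorem exists_not_mem_pPow [Module.Finite L N] {M : Submodule W N} (hM : M.IsLattice L) {x : N}
    (hx : x ≠ 0) : ∃ c : ℤ, ∀ r, x ∈ Isoc.pPow r M → r ≤ c := by
  obtain ⟨b, rfl⟩ := exists_basis hM
  obtain ⟨i, hi⟩ : ∃ i, b.repr x i ≠ 0 := by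
    by_contra h
    push Not at h
    exact hx (b.repr.injective (by ext i; simpa using h i))
  obtain ⟨e, he⟩ := exists_isOrdP hi
  refine ⟨e, fun r hr => ?_⟩
  obtain ⟨w, hw⟩ := (b.mem_span_iff_repr_mem W _).mp (mem_pPow.mp hr) i
  rw [map_smul, Finsupp.smul_apply, smul_eq_mul] at hw
  refine le_of_isOrdP_mem he (w := w) ?_
  rw [hw, ← mul_assoc, ← zpow_add₀ pL_ne_zero, add_neg_cancel, zpow_zero, one_mul]

theorem fg_of_le [Module.Finite L N] {M X : Submodule W N} (hM : M.IsLattice L) (h : X ≤ M) : X.FG := by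
  haveI : Module.Finite W M := Module.Finite.iff_fg.mpr hM.fg
  haveI : IsNoetherian W M := isNoetherian_of_isNoetherianRing_of_finite W M
  have := (IsNoetherian.noetherian (Submodule.comap M.subtype X)).map M.subtype
  rwa [Submodule.map_comap_subtype, inf_eq_right.mpr h] at this

end Groth.Agent.IsocLib
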