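import Groth.Agent.IsocLib.Isoclinic
import Mathlib.Algebra.DirectSum.Module
import Mathlib.RingTheory.Noetherian.Basic
import Mathlib.LinearAlgebra.FiniteDimensional.Lemmas
import Mathlib.Order.ModularLattice

/-!
# Isocrystals: the slope decomposition
-/

set_option autoImplicit false
set_option linter.style.haveILetI false

universe u v

noncomputable section

namespace Groth.Agent.IsocLib

variable {p : ℕ} [Fact p.Prime] {k : Type u} [Field k] [CharP k p] [PerfectRing k p]
  {N : Type v} [AddCommGroup N] [Module (WittVector p k) N]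
  [Module (FractionRing (WittVector p k)) N]
  [IsScalarTower (WittVector p k) (FractionRing (WittVector p k)) N]
  {τ : FractionRing (WittVector p k) →+* FractionRing (WittVector p k)} [Good τ]

local notation "W" => WittVector p k
local notation "L" => FractionRing (WittVector p k)
local notation "ι" => algebraMap (WittVector p k) (FractionRing (WittVector p k))

/-! ### completeness -/

theorem exists_limit [Module.Finite L N] {M : Submodule W N} (hM : M.IsLattice L) (u : ℕ → N)
    (hu : u 0 ∈ M) (hd : ∀ j : ℕ, u (j + 1) - u j ∈ Isoc.pPow (j : ℤ) M) :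
    ∃ v ∈ M, ∀ j : ℕ, v - u j ∈ Isoc.pPow (j : ℤ) M := by
  obtain ⟨b, rfl⟩ := exists_basis hM
  have hmem : ∀ j, u j ∈ Submodule.span W (Set.range b) := by
    intro j
    induction j with
    | zero => exact hu
    | succ j ih =>
      have h1 := (pPow_anti (Int.natCast_nonneg j) _).trans (pPow_zero _).le (hd j)
      have := Submodule.add_mem _ h1 ih
      rwa [sub_add_cancel] at this
  choose c hc using fun j i => (mem_span_range_iff b _).mp (hmem j) i
  choose e he using fun j i => (mem_span_range_iff b _).mp (mem_pPow.mp (hd j)) i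
  have hstep : ∀ j i, c (j + 1) i = c j i + (p : W) ^ j * e j i := by
    intro j i
    apply IsFractionRing.injective W L
    rw [map_add, map_mul, ι_pow, hc, hc, he, map_smul, Finsupp.smul_apply, smul_eq_mul, ← mul_assoc,
      ← zpow_add₀ pL_ne_zero, add_neg_cancel, zpow_zero, one_mul, map_sub, Finsupp.sub_apply]
    ring
  have hdvd : ∀ i {m n : ℕ}, m ≤ n → (p : W) ^ m ∣ c n i - c m i := by
    intro i m n h
    induction n, h using Nat.le_induction with
    | base => simp
    | succ n hmn ih =>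
      rw [hstep, add_sub_right_comm]
      exact dvd_add ih (Dvd.dvd.mul_right (pow_dvd_pow _ hmn) _)
  have hlim : ∀ i, ∃ l : W, ∀ n, (p : W) ^ n ∣ l - c n i := by
    intro i
    obtain ⟨l, hl⟩ := IsPrecomplete.prec (I := Ideal.span {(p : W)}) inferInstance (f := fun n => c n i)
      (fun {m n} h => by
        rw [SModEq.sub_mem, smul_eq_mul, Ideal.mul_top, Ideal.span_singleton_pow, Ideal.mem_span_singleton,
          ← neg_sub, dvd_neg]
        exact hdvd i h)
    refine ⟨l, fun n => ?_⟩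
    have := hl n
    rw [SModEq.sub_mem, smul_eq_mul, Ideal.mul_top, Ideal.span_singleton_pow, Ideal.mem_span_singleton] at this
    rwa [← neg_sub, dvd_neg]
  choose l hl using hlim
  refine ⟨∑ i, l i • b i, Submodule.sum_mem _ fun i _ => Submodule.smul_mem _ _ (Submodule.subset_span ⟨i, rfl⟩),
    fun j => mem_pPow.mpr ((mem_span_range_iff b _).mpr fun i => ?_)⟩
  obtain ⟨w, hw⟩ := hl i j
  refine ⟨w, ?_⟩
  have hr : b.repr (∑ i, l i • b i) i = ι (l i) := by
    rw [show ∑ i, l i • b i = ∑ i, ι (l i) • b i from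
      Finset.sum_congr rfl fun i _ => (IsScalarTower.algebraMap_smul L (l i) (b i)).symm, b.repr_sum_self]
  rw [map_smul, Finsupp.smul_apply, smul_eq_mul, map_sub, Finsupp.sub_apply, hr, ← hc, ← map_sub, hw, map_mul,
    ι_pow, ← mul_assoc, ← zpow_add₀ pL_ne_zero, neg_add_cancel, zpow_zero, one_mul]

theorem eq_zero_of_forall_mem [Module.Finite L N] {M : Submodule W N} (hM : M.IsLattice L) {x : N}
    (h : ∀ i : ℕ, x ∈ Isoc.pPow (i : ℤ) M) : x = 0 := by
  by_contra hx
  obtain ⟨c, hc⟩ := exists_not_mem_pPow hM hx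
  have := hc _ (h (c.toNat + 1))
  omega

theorem mem_of_forall_sup [Module.Finite L N] {M X : Submodule W N} (hM : M.IsLattice L)
    (hX : X.IsLattice L) {x : N} (h : ∀ j : ℕ, x ∈ X ⊔ Isoc.pPow (j : ℤ) M) : x ∈ X := by
  obtain ⟨c, hc⟩ := exists_le_pPow hX hM.fg
  refine (sup_le le_rfl ((pPow_mono _ hc).trans ?_)) (h c.natAbs)
  rw [pPow_pPow]
  exact (pPow_anti (by omega) X).trans (pPow_zero X).le

theorem exists_nat_smul_mem {X U : Submodule W N} (hX : X.FG) (hle : (X : Set N) ⊆ Submodule.span L (U : Set N)) :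
    ∃ e : ℕ, ∀ x ∈ X, (p : L) ^ (e : ℤ) • x ∈ U := by
  classical
  obtain ⟨S, rfl⟩ := hX
  choose n hn using fun x : S => exists_zpow_smul_mem (hle (Submodule.subset_span x.2))
  refine ⟨Finset.univ.sup n, fun x hx => ?_⟩
  induction hx using Submodule.span_induction with
  | mem y hy =>
    have hle' : n ⟨y, hy⟩ ≤ Finset.univ.sup n := Finset.le_sup (Finset.mem_univ _)
    have := zpow_smul_mem (p := p) (m := ((Finset.univ.sup n : ℕ) : ℤ) - n ⟨y, hy⟩) (by omega) (hn ⟨y, hy⟩)
    rwa [smul_smul, ← zpow_add₀ pL_ne_zero, sub_add_cancel] at this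
  | zero => simp
  | add a b _ _ ha hb => rw [smul_add]; exact U.add_mem ha hb
  | smul c a _ ha => rw [smul_comm]; exact U.smul_mem _ ha

/-! ### the stable part and the topologically nilpotent part -/

section Fitting


/-- `⋂ Gⁿ M` -/
def core (G : N →ₛₗ[τ] N) (M : Submodule W N) : Submodule W N := ⨅ n : ℕ, Isoc.latImg G n M

theorem core_le (G : N →ₛₗ[τ] N) (M : Submodule W N) (n : ℕ) : core G M ≤ Isoc.latImg G n M := iInf_le _ n

theorem core_le_self (G : N →ₛₗ[τ] N) (M : Submodule W N) : core G M ≤ M := (core_le G M 0).trans (latImg_zero G M).le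

variable {G : N →ₛₗ[τ] N} {M : Submodule (WittVector p k) N}

theorem latImg_anti (hle : Isoc.latImg G 1 M ≤ M) {m n : ℕ} (h : m ≤ n) :
    Isoc.latImg G n M ≤ Isoc.latImg G m M := by
  induction n, h using Nat.le_induction with
  | base => exact le_rfl
  | succ n _ ih => exact le_trans (by rw [latImg_add]; exact latImg_mono hle) ih

theorem latImg_le_self (hle : Isoc.latImg G 1 M ≤ M) (n : ℕ) : Isoc.latImg G n M ≤ M :=
  (latImg_anti hle (Nat.zero_le n)).trans (latImg_zero G M).le

theorem latImg_core (hG : Function.Injective G) (hle : Isoc.latImg G 1 M ≤ M) (n : ℕ) :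
    Isoc.latImg G n (core G M) = core G M := by
  have h1 : Isoc.latImg G 1 (core G M) = core G M := by
    refine le_antisymm (le_iInf fun n => ?_) fun x hx => ?_
    · refine (latImg_mono (core_le G M n)).trans ?_
      rw [← latImg_add]
      exact latImg_anti hle (by omega)
    · obtain ⟨y, -, rfl⟩ := mem_latImg.mp (core_le G M 1 hx)
      refine iterate_mem_latImg (Submodule.mem_iInf _ |>.mpr fun n => ?_)
      have h := core_le G M (1 + n) hx
      rw [latImg_add] at h
      obtain ⟨z, hz, e⟩ := mem_latImg.mp h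
      simp only [Function.iterate_one] at e
      exact hG e ▸ hz
  induction n with
  | zero => exact latImg_zero G _
  | succ n ih => rw [latImg_add, h1, ih]

/-- The vectors killed topologically by `G`. -/
def nilPart (G : N →ₛₗ[τ] N) (M : Submodule W N) : Submodule L N where
  carrier := {x | ∀ c : ℤ, ∃ n : ℕ, ∀ m, n ≤ m → (⇑G)^[m] x ∈ Isoc.pPow c M}
  zero_mem' c := ⟨0, fun m _ => by rw [← Isoc.iter_apply, map_zero]; exact Submodule.zero_mem _⟩
  add_mem' {a b} ha hb c := by
    obtain ⟨n, hn⟩ := ha c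
    obtain ⟨n', hn'⟩ := hb c
    refine ⟨max n n', fun m hm => ?_⟩
    rw [← Isoc.iter_apply, map_add]
    exact Submodule.add_mem _ (hn m (le_of_max_le_left hm)) (hn' m (le_of_max_le_right hm))
  smul_mem' a x hx c := by
    rcases eq_or_ne a 0 with rfl | ha
    · exact ⟨0, fun m _ => by rw [zero_smul, ← Isoc.iter_apply, map_zero]; exact Submodule.zero_mem _⟩
    obtain ⟨e, he⟩ := exists_isOrdP ha
    obtain ⟨n, hn⟩ := hx (c - e)
    refine ⟨n, fun m hm => ?_⟩
    obtain ⟨u, hu⟩ := isOrdP_map (τ ^ m) he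
    rw [iterate_map_smul, hu, mul_smul, IsScalarTower.algebraMap_smul, mem_pPow, smul_smul,
      ← zpow_add₀ pL_ne_zero, smul_comm]
    exact Submodule.smul_mem _ _ (by
      have := mem_pPow.mp (hn m hm)
      rwa [show -(c - e) = -c + e by ring] at this)

theorem exists_stable [Module.Finite L N] (hM : M.IsLattice L) (hle : Isoc.latImg G 1 M ≤ M) (j : ℕ) :
    ∃ n, ∀ m, n ≤ m → Isoc.latImg G m M ⊔ Isoc.pPow (j : ℤ) M = Isoc.latImg G n M ⊔ Isoc.pPow (j : ℤ) M := by
  induction j with
  | zero =>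
    refine ⟨0, fun m _ => ?_⟩
    rw [Nat.cast_zero, pPow_zero, sup_eq_right.mpr (latImg_le_self hle m),
      sup_eq_right.mpr (latImg_le_self hle 0)]
  | succ j ih =>
    obtain ⟨n, hn⟩ := ih
    let h := Module.finrank L N
    let Z : ℕ → Submodule W N := fun m => Isoc.latImg G m M ⊔ Isoc.pPow ((j + 1 : ℕ) : ℤ) M
    have hpj : Isoc.pPow ((j + 1 : ℕ) : ℤ) M ≤ Isoc.pPow (j : ℤ) M := pPow_anti (by push_cast; omega) M
    have hanti : ∀ {a b}, a ≤ b → Z b ≤ Z a := fun h => sup_le_sup_right (latImg_anti hle h) _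
    have hA : ∀ m, Z m ⊔ Isoc.pPow (j : ℤ) M = Isoc.latImg G m M ⊔ Isoc.pPow (j : ℤ) M := fun m => by
      rw [sup_assoc, sup_eq_right.mpr hpj]
    obtain ⟨i, hi, hi'⟩ := exists_eq_succ_of_chain (isLattice_pPow (j : ℤ) hM)
      (fun i => Z (n + (h + 1 - i)) ⊓ Isoc.pPow (j : ℤ) M) h le_rfl
      (fun i _ => by
        rw [pPow_pPow, show (1 : ℤ) + j = ((j + 1 : ℕ) : ℤ) by push_cast; ring]
        exact le_inf le_sup_right hpj)
      (fun i _ => inf_le_right) (fun i _ => inf_le_inf_right _ (hanti (by omega)))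
    obtain ⟨m, hnm, hm⟩ : ∃ m, n ≤ m ∧
        Z (m + 1) ⊓ Isoc.pPow (j : ℤ) M = Z m ⊓ Isoc.pPow (j : ℤ) M := by
      refine ⟨n + (h + 1 - (i + 1)), Nat.le_add_right _ _, ?_⟩
      rw [show n + (h + 1 - (i + 1)) + 1 = n + (h + 1 - i) by omega]
      exact hi'
    have heq : Z (m + 1) = Z m :=
      eq_of_le_of_inf_le_of_sup_le (hanti (Nat.le_succ m)) hm.ge
        (by rw [hA, hA, hn m hnm, hn (m + 1) (by omega)])
    have hstep : ∀ a, Z (a + 1) = Isoc.latImg G 1 (Z a) ⊔ Isoc.pPow ((j + 1 : ℕ) : ℤ) M := fun a => by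
      show Isoc.latImg G (a + 1) M ⊔ _ = _
      rw [latImg_sup, ← latImg_add, add_comm 1 a, sup_assoc, sup_eq_right.mpr
        (show Isoc.latImg G 1 (Isoc.pPow ((j + 1 : ℕ) : ℤ) M) ≤ Isoc.pPow ((j + 1 : ℕ) : ℤ) M by
          rw [latImg_pPow]; exact pPow_mono _ hle)]
    refine ⟨m, fun a ha => ?_⟩
    show Z a = Z m
    induction a, ha using Nat.le_induction with
    | base => rfl
    | succ a _ ih => rw [hstep, ih, ← hstep, heq]

theorem exists_core_sub [Module.Finite L N] (hsurj : Function.Surjective G) (hM : M.IsLattice L)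
    (hle : Isoc.latImg G 1 M ≤ M) (j : ℕ) :
    ∃ n, ∀ m, n ≤ m → Isoc.latImg G m M ≤ core G M ⊔ Isoc.pPow (j : ℤ) M := by
  choose n hn using exists_stable (G := G) hM hle
  let Y : ℕ → Submodule W N := fun i => Isoc.latImg G (n i) M ⊔ Isoc.pPow (i : ℤ) M
  have hY : ∀ i m, Y i ≤ Isoc.latImg G m M ⊔ Isoc.pPow (i : ℤ) M := fun i m => by
    show Isoc.latImg G (n i) M ⊔ _ ≤ _
    rw [← hn i (max m (n i)) (le_max_right _ _)]
    exact sup_le_sup_right (latImg_anti hle (le_max_left _ _)) _
  have hstep : ∀ i, Y i ≤ Y (i + 1) ⊔ Isoc.pPow (i : ℤ) M := fun i => by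
    refine (hY i (n (i + 1))).trans (sup_le_sup_right ?_ _)
    exact le_sup_left
  refine ⟨n j, fun m hm x hx => ?_⟩
  have hx0 : x ∈ Y j := (hn j m hm).le (Submodule.mem_sup_left hx)
  have hex : ∀ i (y : Y (j + i)), ∃ z : Y (j + (i + 1)), (z : N) - y ∈ Isoc.pPow ((j + i : ℕ) : ℤ) M := by
    intro i y
    obtain ⟨z, hz, d, hd, e⟩ := Submodule.mem_sup.mp (hstep (j + i) y.2)
    refine ⟨⟨z, by rwa [← add_assoc]⟩, ?_⟩
    show z - (y : N) ∈ _
    rw [← e, sub_add_cancel_left]
    exact Submodule.neg_mem _ hd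
  choose g hg using hex
  let u : (i : ℕ) → Y (j + i) := fun i => Nat.rec (motive := fun i => Y (j + i)) ⟨x, hx0⟩ g i
  have hd : ∀ i : ℕ, (u (i + 1) : N) - u i ∈ Isoc.pPow ((j + i : ℕ) : ℤ) M := fun i => hg i (u i)
  have hxM : x ∈ M := latImg_le_self hle m hx
  obtain ⟨v, hv, hvd⟩ := exists_limit hM (fun i => (u i : N)) hxM
    (fun i => pPow_anti (by push_cast; omega) M (hd i))
  have hsub : ∀ i, (u i : N) - x ∈ Isoc.pPow (j : ℤ) M := by
    intro i
    induction i with
    | zero =>
      show x - x ∈ _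
      rw [sub_self]; exact Submodule.zero_mem _
    | succ i ih =>
      have := Submodule.add_mem _ (pPow_anti (show (j : ℤ) ≤ ((j + i : ℕ) : ℤ) by push_cast; omega) M (hd i)) ih
      rwa [sub_add_sub_cancel] at this
  refine Submodule.mem_sup.mpr ⟨v, ?_, x - v, ?_, add_sub_cancel v x⟩
  · refine (Submodule.mem_iInf _).mpr fun a => ?_
    have hXa : ∀ i : ℕ, v ∈ Isoc.latImg G a M ⊔ Isoc.pPow (i : ℤ) M := fun i => by
      have h1 : (u i : N) ∈ Isoc.latImg G a M ⊔ Isoc.pPow (i : ℤ) M :=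
        (sup_le_sup_left (pPow_anti (by push_cast; omega) M) _) (hY (j + i) a (u i).2)
      have := Submodule.add_mem _ (Submodule.mem_sup_right (hvd i) :
        v - (u i : N) ∈ Isoc.latImg G a M ⊔ Isoc.pPow (i : ℤ) M) h1
      rwa [sub_add_cancel] at this
    exact mem_of_forall_sup hM (isLattice_latImg hsurj a hM) hXa
  · have := Submodule.add_mem _ (hvd j) (hsub j)
    rw [sub_add_sub_cancel] at this
    rw [← neg_sub]
    exact Submodule.neg_mem _ this

theorem exists_split [Module.Finite L N] (hG : Function.Bijective G) (hM : M.IsLattice L)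
    (hle : Isoc.latImg G 1 M ≤ M) (x : N) :
    ∃ y ∈ Submodule.span L (core G M : Set N), x - y ∈ nilPart G M := by
  suffices H : ∀ x ∈ M, ∃ y ∈ Submodule.span L (core G M : Set N), x - y ∈ nilPart G M by
    obtain ⟨n, hn⟩ := exists_zpow_smul_mem (x := x) (M := M) (hM.span_eq_top ▸ Submodule.mem_top)
    obtain ⟨y, hy, hy'⟩ := H _ hn
    refine ⟨((p : L) ^ (n : ℤ))⁻¹ • y, Submodule.smul_mem _ _ hy, ?_⟩
    have := Submodule.smul_mem _ ((p : L) ^ (n : ℤ))⁻¹ hy'
    rwa [smul_sub, inv_smul_smul₀ (zpow_ne _)] at this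
  intro x hx
  obtain ⟨e, he⟩ := exists_nat_smul_mem (U := core G M)
    (fg_of_le' hM.fg (inf_le_left : M ⊓ latOf (Submodule.span L (core G M : Set N)) ≤ M)) fun y hy => hy.2
  choose n hn using exists_core_sub hG.2 hM hle
  have hu : ∀ j, ∃ u ∈ core G M, ∀ m, n j ≤ m → (⇑G)^[m] (x - u) ∈ Isoc.pPow (j : ℤ) M := by
    intro j
    obtain ⟨w, hw, d, hd, hwd⟩ := Submodule.mem_sup.mp (hn j (n j) le_rfl (iterate_mem_latImg hx))
    obtain ⟨u, hu, hue⟩ := mem_latImg.mp ((latImg_core hG.1 hle (n j)).ge hw)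
    refine ⟨u, hu, fun m hm => ?_⟩
    obtain ⟨t, rfl⟩ := Nat.exists_eq_add_of_le hm
    rw [add_comm, Function.iterate_add_apply]
    have hd' : (⇑G)^[n j] (x - u) = d := by
      rw [← Isoc.iter_apply, map_sub, Isoc.iter_apply, Isoc.iter_apply, hue, ← hwd, add_sub_cancel_left]
    rw [hd']
    have h := iterate_mem_latImg (F := G) (s := t) hd
    rw [latImg_pPow] at h
    exact pPow_mono _ (latImg_le_self hle t) h
  choose u hu hud using hu
  have hdiff : ∀ j : ℕ, u (j + 1 + e) - u (j + e) ∈ Isoc.pPow (j : ℤ) (core G M) := by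
    intro j
    let m := max (n (j + 1 + e)) (n (j + e))
    set d := u (j + 1 + e) - u (j + e) with hd
    have hdc : (⇑G)^[m] d ∈ core G M :=
      (latImg_core hG.1 hle m).le (iterate_mem_latImg (Submodule.sub_mem _ (hu _) (hu _)))
    have hdp : (⇑G)^[m] d ∈ Isoc.pPow ((j + e : ℕ) : ℤ) M := by
      rw [hd, show u (j + 1 + e) - u (j + e) = (x - u (j + e)) - (x - u (j + 1 + e)) by abel,
        ← Isoc.iter_apply, map_sub]
      exact Submodule.sub_mem _ (hud _ m (le_max_right _ _))
        (pPow_anti (by push_cast; omega) M (hud _ m (le_max_left _ _)))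
    have h1 : (⇑G)^[m] d ∈ Isoc.pPow (j : ℤ) (core G M) := by
      have h2 := he _ ⟨mem_pPow.mp hdp, Submodule.smul_mem _ _ (Submodule.subset_span hdc)⟩
      rw [smul_smul, ← zpow_add₀ pL_ne_zero, show (e : ℤ) + -((j + e : ℕ) : ℤ) = -(j : ℤ) by push_cast; ring] at h2
      exact mem_pPow.mpr h2
    rw [← latImg_core hG.1 hle m, ← latImg_pPow] at h1
    obtain ⟨z, hz, hze⟩ := mem_latImg.mp h1
    exact hG.1.iterate m hze ▸ hz
  obtain ⟨v, hv, hvd⟩ := exists_limit hM (fun j => u (j + e)) (by simpa using core_le_self G M (hu e))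
    (fun j => pPow_mono _ (core_le_self G M) (hdiff j))
  have hvU : v ∈ core G M := (Submodule.mem_iInf _).mpr fun a =>
    mem_of_forall_sup hM (isLattice_latImg hG.2 a hM) fun i => by
      have := Submodule.add_mem _
        (Submodule.mem_sup_right (hvd i) : v - u (i + e) ∈ Isoc.latImg G a M ⊔ Isoc.pPow (i : ℤ) M)
        (Submodule.mem_sup_left (core_le G M a (hu (i + e))))
      rwa [sub_add_cancel] at this
  refine ⟨v, Submodule.subset_span hvU, fun c => ⟨n (c.toNat + e), fun m hm => ?_⟩⟩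
  refine pPow_anti (show c ≤ (c.toNat : ℤ) by omega) M ?_
  rw [show x - v = (x - u (c.toNat + e)) - (v - u (c.toNat + e)) by abel, ← Isoc.iter_apply, map_sub]
  refine Submodule.sub_mem _ (pPow_anti (by push_cast; omega) M (hud _ m hm)) ?_
  have h := iterate_mem_latImg (F := G) (s := m) (hvd c.toNat)
  rw [latImg_pPow] at h
  exact pPow_mono _ (latImg_le_self hle m) h

theorem disjoint_span_core_nilPart [Module.Finite L N] (hG : Function.Bijective G) (hM : M.IsLattice L)
    (hle : Isoc.latImg G 1 M ≤ M) : Disjoint (Submodule.span L (core G M : Set N)) (nilPart G M) := by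
  rw [Submodule.disjoint_def]
  intro x hxU hxZ
  obtain ⟨n, hn⟩ := exists_zpow_smul_mem hxU
  obtain ⟨e, he⟩ := exists_nat_smul_mem (U := core G M)
    (fg_of_le' hM.fg (inf_le_left : M ⊓ latOf (Submodule.span L (core G M : Set N)) ≤ M)) fun y hy => hy.2
  have hz : ∀ y ∈ core G M, y ∈ nilPart G M → y = 0 := by
    intro y hy hyZ
    refine eq_zero_of_forall_mem hM fun i => ?_
    obtain ⟨m, hm⟩ := hyZ ((i + e : ℕ) : ℤ)
    have hc : (⇑G)^[m] y ∈ core G M := (latImg_core hG.1 hle m).le (iterate_mem_latImg hy)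
    have h2 := he _ ⟨mem_pPow.mp (hm m le_rfl), Submodule.smul_mem _ _ (Submodule.subset_span hc)⟩
    rw [smul_smul, ← zpow_add₀ pL_ne_zero, show (e : ℤ) + -((i + e : ℕ) : ℤ) = -(i : ℤ) by push_cast; ring] at h2
    have h1 : (⇑G)^[m] y ∈ Isoc.pPow (i : ℤ) (core G M) := mem_pPow.mpr h2
    rw [← latImg_core hG.1 hle m, ← latImg_pPow] at h1
    obtain ⟨z, hz, hze⟩ := mem_latImg.mp h1
    exact pPow_mono _ (core_le_self G M) (hG.1.iterate m hze ▸ hz)
  have := hz _ hn (Submodule.smul_mem _ _ hxZ)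
  rw [smul_eq_zero] at this
  exact this.resolve_left (zpow_ne _)

end Fitting

/-! ### the slope decomposition -/

theorem norIter_comm (F : N →ₛₗ[τ] N) (r : ℤ) (s m : ℕ) (x : N) :
    (⇑(norIter F r s))^[m] (F x) = F ((⇑(norIter F r s))^[m] x) := by
  rw [norIter_iterate, norIter_iterate, map_zpow_smul, ← Function.iterate_succ_apply,
    Function.iterate_succ_apply']

/-- A nonzero isocrystal splits off a nonzero isoclinic part. -/
theorem exists_split_isoclinic [Module.Finite L N] [Nontrivial N] {F : N →ₛₗ[τ] N} (hF : Function.Bijective F) :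
    ∃ (μ : ℚ) (U Z : Submodule L N), U ≠ ⊥ ∧ IsoclinicOn F μ U ∧ (∀ x ∈ Z, F x ∈ Z) ∧ IsCompl U Z := by
  obtain ⟨M₀, hM₀⟩ : ∃ M : Submodule W N, M.IsLattice L := ⟨_, isLattice_span_range (Module.finBasis L N)⟩
  obtain ⟨o, ho, lam, hl, -⟩ := exists_slope hM₀ hF
  have hlam : Isoc.IsFirstSlope F lam := ⟨M₀, hM₀, o, fun n _ => ho n, hl⟩
  obtain ⟨r, s, M, hs, -, hrs, hM, hord⟩ := exists_rational hF hlam
  subst hrs
  have hle := (latImg_le_pPow_iff F r s M).mp hord.1
  have hG := norIter_bijective hF r s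
  set G := norIter F r s with hGdef
  obtain ⟨c, hc⟩ := exists_le_pPow hM (fg_span_image F 1 hM.fg)
  have hFM : ∀ y ∈ M, (p : L) ^ (-c) • F y ∈ M := fun y hy =>
    mem_pPow.mp (hc (iterate_mem_latImg (s := 1) hy))
  have hUstab : ∀ x ∈ Submodule.span L (core G M : Set N), F x ∈ Submodule.span L (core G M : Set N) := by
    intro x hx
    induction hx using Submodule.span_induction with
    | mem y hy =>
      have h : (p : L) ^ (-c) • F y ∈ core G M := (Submodule.mem_iInf _).mpr fun n => by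
        obtain ⟨z, hz, rfl⟩ := mem_latImg.mp (core_le G M n hy)
        rw [hGdef, ← norIter_comm, ← iterate_map_zpow_smul]
        exact iterate_mem_latImg (hFM z hz)
      have h2 := Submodule.smul_mem _ ((p : L) ^ c) (Submodule.subset_span (R := L) h)
      rwa [smul_smul, ← zpow_add₀ pL_ne_zero, add_neg_cancel, zpow_zero, one_smul] at h2
    | zero => rw [map_zero]; exact Submodule.zero_mem _
    | add a b _ _ ha hb => rw [map_add]; exact Submodule.add_mem _ ha hb
    | smul a b _ hb => rw [map_smulₛₗ]; exact Submodule.smul_mem _ _ hb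
  have hZstab : ∀ x ∈ nilPart G M, F x ∈ nilPart G M := by
    intro x hx c'
    obtain ⟨n, hn⟩ := hx (c' - c)
    refine ⟨n, fun m hm => ?_⟩
    rw [hGdef, norIter_comm, mem_pPow]
    have h := hFM _ (mem_pPow.mp (hn m hm))
    rwa [map_zpow_smul, smul_smul, ← zpow_add₀ pL_ne_zero, show -c + -(c' - c) = -c' by ring] at h
  have hcompl : IsCompl (Submodule.span L (core G M : Set N)) (nilPart G M) := by
    refine ⟨disjoint_span_core_nilPart hG hM hle, codisjoint_iff.mpr (eq_top_iff.mpr fun x _ => ?_)⟩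
    obtain ⟨y, hy, hy'⟩ := exists_split hG hM hle x
    exact Submodule.mem_sup.mpr ⟨y, hy, x - y, hy', add_sub_cancel y x⟩
  refine ⟨(r : ℚ) / s, _, _, fun h0 => ?_, ⟨hUstab, core G M, fg_of_le' hM.fg (core_le_self G M), rfl, r, s,
    hs, rfl, (latImg_eq_pPow_iff F r s _).mpr (latImg_core hG.1 hle 1)⟩, hZstab, hcompl⟩
  obtain ⟨n, hn⟩ := exists_core_sub hG.2 hM hle 1
  have hbot : core G M = ⊥ := (Submodule.eq_bot_iff _).mpr fun y hy =>
    (Submodule.eq_bot_iff _).mp h0 y (Submodule.subset_span hy)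
  have h1 := hn (n + 1) (Nat.le_succ n)
  rw [hbot, bot_sup_eq, Nat.cast_one, hGdef, latImg_norIter] at h1
  have h2 := pPow_mono (((n + 1 : ℕ) : ℤ) * r) h1
  rw [pPow_pPow, add_neg_cancel, pPow_zero, pPow_pPow] at h2
  have h3 := le_slope hF hlam hM (Nat.mul_pos hs (Nat.succ_pos n)) h2
  have hs' : (0 : ℝ) < s := by exact_mod_cast hs
  rw [div_le_div_iff₀ (by exact_mod_cast Nat.mul_pos hs (Nat.succ_pos n)) hs'] at h3
  push_cast at h3
  nlinarith

theorem le_iSup_slopePart [Module.Finite L N] {F : N →ₛₗ[τ] N} (hF : Function.Bijective F) :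
    ∀ (n : ℕ) (P : Submodule L N), Module.finrank L P ≤ n → (∀ x ∈ P, F x ∈ P) →
      P ≤ ⨆ μ : ℚ, Isoc.slopePart F μ := by
  intro n
  induction n with
  | zero =>
    intro P hP _
    rw [Submodule.finrank_eq_zero.mp (Nat.le_zero.mp hP)]
    exact bot_le
  | succ n ih =>
    intro P hP hPs
    rcases eq_or_ne P ⊥ with rfl | h0
    · exact bot_le
    haveI : Nontrivial P := (Submodule.nontrivial_iff_ne_bot).mpr h0
    obtain ⟨μ, U, Z, hU0, hU, hZ, hcompl⟩ := exists_split_isoclinic (bijective_restrict hF hPs)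
    have h1 : U.map P.subtype ≤ Isoc.slopePart F μ := (hU.map P.subtype (fun _ => rfl)).le_slopePart
    have h2 : Z.map P.subtype ≤ ⨆ μ : ℚ, Isoc.slopePart F μ := by
      refine ih _ ?_ ?_
      · rw [← (Submodule.equivMapOfInjective P.subtype Subtype.val_injective Z).finrank_eq]
        have hne : Z ≠ ⊤ := fun h => hU0 (eq_bot_of_top_isCompl (h ▸ hcompl.symm))
        have := Submodule.finrank_lt hne
        omega
      · rintro _ ⟨z, hz, rfl⟩
        exact ⟨_, hZ z hz, rfl⟩
    have h3 : P = U.map P.subtype ⊔ Z.map P.subtype := by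
      rw [← Submodule.map_sup, hcompl.sup_eq_top, Submodule.map_subtype_top]
    rw [h3]
    exact sup_le (h1.trans (le_iSup (fun μ : ℚ => Isoc.slopePart F μ) μ)) h2

theorem iSup_slopePart_eq_top [Module.Finite L N] {F : N →ₛₗ[τ] N} (hF : Function.Bijective F) :
    ⨆ μ : ℚ, Isoc.slopePart F μ = ⊤ :=
  eq_top_iff.mpr (le_iSup_slopePart hF _ ⊤ le_rfl fun _ _ => trivial)

theorem stable_finset_sup [Module.Finite L N] (F : N →ₛₗ[τ] N) (T : Finset ℚ) :
    ∀ x ∈ T.sup (Isoc.slopePart F), F x ∈ T.sup (Isoc.slopePart F) := by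
  classical
  induction T using Finset.induction_on with
  | empty =>
    intro x hx
    rw [Finset.sup_empty, Submodule.mem_bot] at hx ⊢
    rw [hx, map_zero]
  | insert ν T _ ih =>
    intro x hx
    rw [Finset.sup_insert] at hx ⊢
    obtain ⟨a, ha, b, hb, rfl⟩ := Submodule.mem_sup.mp hx
    rw [map_add]
    exact Submodule.add_mem_sup ((isoclinicOn_slopePart F ν).1 a ha) (ih b hb)

theorem disjoint_finset_sup [Module.Finite L N] {F : N →ₛₗ[τ] N} (hF : Function.Bijective F)
    (T : Finset ℚ) : ∀ μ, μ ∉ T → Disjoint (Isoc.slopePart F μ) (T.sup (Isoc.slopePart F)) := by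
  classical
  induction T using Finset.induction_on with
  | empty => simp
  | insert ν T hν ih =>
    intro μ hμ
    rw [Finset.mem_insert, not_or] at hμ
    set B := T.sup (Isoc.slopePart F)
    have hB : B ≤ B.comap F := stable_finset_sup F T
    set C := Isoc.slopePart F μ ⊓ (Isoc.slopePart F ν ⊔ B) with hC
    have hCs : ∀ x ∈ C, F x ∈ C := by
      rintro x ⟨hx1, hx2⟩
      refine ⟨(isoclinicOn_slopePart F μ).1 x hx1, ?_⟩
      obtain ⟨a, ha, b, hb, rfl⟩ := Submodule.mem_sup.mp hx2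
      rw [map_add]
      exact Submodule.add_mem_sup ((isoclinicOn_slopePart F ν).1 a ha) (hB hb)
    have hFq : Function.Bijective (B.mapQ B F hB) := by
      refine ⟨(injective_iff_map_eq_zero (B.mapQ B F hB)).mpr fun y hy => ?_, fun y => ?_⟩
      · obtain ⟨y, rfl⟩ := Submodule.Quotient.mk_surjective B y
        rw [Submodule.mapQ_apply, Submodule.Quotient.mk_eq_zero] at hy
        obtain ⟨z, hz, e⟩ := exists_preimage hF.1 (stable_finset_sup F T) hy
        rw [Submodule.Quotient.mk_eq_zero, ← hF.1 e]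
        exact hz
      · obtain ⟨y, rfl⟩ := Submodule.Quotient.mk_surjective B y
        obtain ⟨x, rfl⟩ := hF.2 y
        exact ⟨Submodule.Quotient.mk x, rfl⟩
    have h1 : IsoclinicOn (B.mapQ B F hB) μ (C.map B.mkQ) :=
      ((isoclinicOn_slopePart F μ).sub hF inf_le_left hCs).map B.mkQ (fun _ => rfl)
    have h2 : IsoclinicOn (B.mapQ B F hB) ν (C.map B.mkQ) := by
      refine ((isoclinicOn_slopePart F ν).map (F' := B.mapQ B F hB) B.mkQ (fun _ => rfl)).sub hFq ?_ h1.1
      refine (Submodule.map_mono inf_le_right).trans ?_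
      rw [Submodule.map_sup, Submodule.mkQ_map_self, sup_bot_eq]
    have h3 := h1.eq_bot hFq h2 hμ.1
    rw [← LinearMap.le_ker_iff_map, Submodule.ker_mkQ] at h3
    rw [Finset.sup_insert, disjoint_iff, ← hC, eq_bot_iff, ← (ih μ hμ.2).eq_bot]
    exact le_inf inf_le_left h3

theorem iSupIndep_slopePart [Module.Finite L N] {F : N →ₛₗ[τ] N} (hF : Function.Bijective F) :
    iSupIndep fun μ : ℚ => Isoc.slopePart F μ := by
  classical
  refine iSupIndep_def.mpr fun μ => Submodule.disjoint_def.mpr fun x hx hx' => ?_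
  rw [iSup_subtype'] at hx'
  obtain ⟨S, hS⟩ := Submodule.mem_iSup_iff_exists_finset.mp hx'
  refine Submodule.disjoint_def.mp (disjoint_finset_sup hF (S.image Subtype.val) μ ?_) x hx ?_
  · simp only [Finset.mem_image, not_exists, not_and]
    intro a _ e
    exact a.2 e
  · refine SetLike.le_def.mp (iSup₂_le fun a ha => ?_) hS
    exact Finset.le_sup (f := Isoc.slopePart F) (Finset.mem_image_of_mem _ ha)

theorem isInternal_slopePart [Module.Finite L N] {F : N →ₛₗ[τ] N} (hF : Function.Bijective F) :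
    DirectSum.IsInternal fun μ : ℚ => Isoc.slopePart F μ :=
  DirectSum.isInternal_submodule_of_iSupIndep_of_iSup_eq_top (iSupIndep_slopePart hF) (iSup_slopePart_eq_top hF)

/-! ### the sum of the slopes -/

theorem prod_zpow {κ : Type*} (f : κ → ℤ) (t : Finset κ) :
    ∏ i ∈ t, (p : L) ^ f i = (p : L) ^ (∑ i ∈ t, f i) := by
  classical
  induction t using Finset.induction_on with
  | empty => simp
  | insert a t ha ih => rw [Finset.prod_insert ha, Finset.sum_insert ha, ih, zpow_add₀ pL_ne_zero]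

theorem sum_slopes_eq [Module.Finite L N] {F : N →ₛₗ[τ] N} (hF : Function.Bijective F) {h : ℕ}
    (b₀ : Module.Basis (Fin h) L N) {d : ℤ} (hd : Isoc.IsOrdP (detFun b₀ F) d) :
    ∑ᶠ μ : ℚ, μ * (Isoc.newtonMult F μ : ℚ) = d := by
  classical
  let A : ℚ → Submodule L N := fun μ => Isoc.slopePart F μ
  have hI : DirectSum.IsInternal A := isInternal_slopePart hF
  have hiso : ∀ μ, Isoc.IsIsoclinic (F.restrict (isoclinicOn_slopePart F μ).1) μ := fun μ =>
    (isIsoclinic_restrict_iff _).mpr (isoclinicOn_slopePart F μ)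
  choose M hM r s hs hrs heq using hiso
  choose bμ hbμ using fun μ => exists_basis (hM μ)
  let bc := hI.collectedBasis bμ
  haveI : Finite ((μ : ℚ) × Fin (Module.finrank L (A μ))) := Module.Finite.finite_basis bc
  haveI := Fintype.ofFinite ((μ : ℚ) × Fin (Module.finrank L (A μ)))
  let T : Finset ℚ := (Submodule.finite_ne_bot_of_iSupIndep (iSupIndep_slopePart hF)).toFinset
  have hT : ∀ a : (μ : ℚ) × Fin (Module.finrank L (A μ)), a.1 ∈ T := fun a => by
    simp only [T, Set.Finite.mem_toFinset, Set.mem_setOf_eq]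
    intro h0
    have := a.2.pos
    rw [show A a.1 = ⊥ from h0, finrank_bot] at this
    omega
  let S : ℕ := ∏ μ ∈ T, s μ
  have hS : 0 < S := Finset.prod_pos fun μ _ => hs μ
  let R : (μ : ℚ) → ℤ := fun μ => r μ * ((S / s μ : ℕ) : ℤ)
  have hdvd : ∀ μ ∈ T, s μ ∣ S := fun μ hμ => Finset.dvd_prod_of_mem _ hμ
  have hR : ∀ μ ∈ T, (R μ : ℚ) = S * μ := fun μ hμ => by
    obtain ⟨c, hc⟩ := hdvd μ hμ
    simp only [R, hc, Nat.mul_div_cancel_left _ (hs μ)]
    have h1 := hrs μ
    rw [div_eq_iff (by exact_mod_cast (hs μ).ne')] at h1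
    push_cast
    linear_combination (c : ℚ) * h1
  have heq' : ∀ μ ∈ T, Isoc.latImg (F.restrict (isoclinicOn_slopePart F μ).1) S (M μ) = Isoc.pPow (R μ) (M μ) := by
    intro μ hμ
    obtain ⟨c, hc⟩ := hdvd μ hμ
    have := latImg_eq_mul (heq μ) c
    rw [← hc] at this
    rwa [show R μ = (c : ℤ) * r μ by simp only [R, hc, Nat.mul_div_cancel_left _ (hs μ)]; ring]
  let e : Fin h ≃ (μ : ℚ) × Fin (Module.finrank L (A μ)) := b₀.indexEquiv bc
  let B : Module.Basis (Fin h) L N := bc.reindex e.symm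
  have hB : ∀ i, B i = ((bμ (e i).1 (e i).2 : A (e i).1) : N) := fun i => by
    simp only [B, Module.Basis.reindex_apply, Equiv.symm_symm, bc, DirectSum.IsInternal.collectedBasis_coe]
  let D : N →ₗ[L] N := B.constr L fun i => (p : L) ^ (-R (e i).1) • B i
  let H : N →ₛₗ[τ ^ S] N := (Isoc.iter F S).comp D
  have hD : Function.Bijective D := by
    let D' : N →ₗ[L] N := B.constr L fun i => (p : L) ^ (R (e i).1) • B i
    have h1 : D ∘ₗ D' = LinearMap.id := B.ext fun i => by
      simp [D, D', smul_smul, zpow_ne (p := p) (k := k)]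
    have h2 : D' ∘ₗ D = LinearMap.id := B.ext fun i => by
      simp [D, D', smul_smul, zpow_ne (p := p) (k := k)]
    exact Function.bijective_iff_has_inverse.mpr ⟨D', LinearMap.congr_fun h2, LinearMap.congr_fun h1⟩
  have hH : Function.Bijective H := (hF.iterate S).comp hD
  set MB := Submodule.span W (Set.range B)
  have hMμ : ∀ μ, ∀ y ∈ M μ, ((y : A μ) : N) ∈ MB := by
    intro μ y hy
    rw [hbμ μ] at hy
    induction hy using Submodule.span_induction with
    | mem z hz =>
      obtain ⟨i, rfl⟩ := hz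
      refine Submodule.subset_span ⟨e.symm ⟨μ, i⟩, ?_⟩
      rw [hB, Equiv.apply_symm_apply]
    | zero => exact Submodule.zero_mem _
    | add a b _ _ ha hb => exact Submodule.add_mem _ ha hb
    | smul c a _ ha => exact Submodule.smul_mem _ c ha
  have hHy : ∀ μ (y : A μ), H y = (p : L) ^ (-R μ) • (⇑F)^[S] (y : N) := by
    intro μ y
    have hDy : D (y : N) = (p : L) ^ (-R μ) • (y : N) := by
      have : D.comp (A μ).subtype = ((p : L) ^ (-R μ)) • (A μ).subtype := (bμ μ).ext fun i => by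
        have hb : B (e.symm ⟨μ, i⟩) = ((bμ μ i : A μ) : N) := by rw [hB, Equiv.apply_symm_apply]
        rw [LinearMap.comp_apply, LinearMap.smul_apply, Submodule.subtype_apply, ← hb]
        simp only [D, Module.Basis.constr_basis, Equiv.apply_symm_apply]
      exact LinearMap.congr_fun this y
    show Isoc.iter F S (D y) = _
    rw [hDy, Isoc.iter_apply, iterate_map_zpow_smul]
  have hit : ∀ μ (y : A μ), (((⇑(F.restrict (isoclinicOn_slopePart F μ).1))^[S] y : A μ) : N) =
      (⇑F)^[S] (y : N) := fun μ y => iterate_intertwine (A μ).subtype (fun _ => rfl) S y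
  have hHM : Isoc.latImg H 1 MB = MB := by
    refine le_antisymm (latImg_le_iff.mpr fun x hx => ?_) (Submodule.span_le.mpr ?_)
    · rw [Function.iterate_one]
      induction hx using Submodule.span_induction with
      | mem z hz =>
        obtain ⟨i, rfl⟩ := hz
        rw [hB, hHy, ← hit, ← Submodule.coe_smul]
        refine hMμ _ _ (mem_pPow.mp ((heq' _ (hT _)).le (iterate_mem_latImg ?_)))
        rw [hbμ]
        exact Submodule.subset_span ⟨_, rfl⟩
      | zero => rw [map_zero]; exact Submodule.zero_mem _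
      | add a b _ _ ha hb => rw [map_add]; exact Submodule.add_mem _ ha hb
      | smul c a _ ha =>
        obtain ⟨c', hc'⟩ := map_wsmul H c
        rw [hc']
        exact Submodule.smul_mem _ _ ha
    · rintro _ ⟨i, rfl⟩
      have hmem : (p : L) ^ (R (e i).1) • bμ (e i).1 (e i).2 ∈ Isoc.pPow (R (e i).1) (M (e i).1) := by
        refine smul_mem_pPow ?_
        rw [hbμ]
        exact Submodule.subset_span ⟨_, rfl⟩
      obtain ⟨y, hy, hye⟩ := mem_latImg.mp ((heq' _ (hT _)).ge hmem)
      refine mem_latImg.mpr ⟨(y : N), hMμ _ y hy, ?_⟩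
      rw [Function.iterate_one, hHy, ← hit, hye, Submodule.coe_smul, smul_smul, ← zpow_add₀ pL_ne_zero,
        neg_add_cancel, zpow_zero, one_smul, hB]
  have h0 := isOrdP_zero_of_latImg_eq B hH hHM
  have hdiag : detFun B D = (p : L) ^ (-∑ i, R (e i).1) := by
    rw [detFun, show (Matrix.of fun i j => B.repr (D (B j)) i) = Matrix.diagonal fun i => (p : L) ^ (-R (e i).1)
      from ?_, Matrix.det_diagonal, ← Finset.sum_neg_distrib, prod_zpow]
    ext i j
    simp only [D, Module.Basis.constr_basis, Matrix.of_apply, map_smul, Module.Basis.repr_self,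
      Finsupp.smul_apply, smul_eq_mul, Matrix.diagonal_apply, Finsupp.single_apply]
    rcases eq_or_ne i j with h | h
    · subst h; simp
    · simp [h, h.symm]
  have hdet : Isoc.IsOrdP (detFun B H) ((S : ℤ) * d + -∑ i, R (e i).1) := by
    rw [show (H : N → N) = (Isoc.iter F S : N → N) ∘ D from rfl, detFun_comp, hdiag, Isoc.coe_iter]
    exact isOrdP_mul (isOrdP_detFun_iterate B F (isOrdP_detFun_basis' b₀ B hd) S) (isOrdP_map _ (isOrdP_zpow _))
  have hkey : (S : ℚ) * d = ∑ i, (R (e i).1 : ℚ) := by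
    have := isOrdP_unique h0 hdet
    rw [← Int.cast_natCast (R := ℚ) S, ← Int.cast_mul, ← Int.cast_sum]
    congr 1
    linarith
  rw [finsum_eq_sum_of_support_subset _ (s := T) ?_]
  · have hsum : ∑ μ ∈ T, μ * (Isoc.newtonMult F μ : ℚ) =
        ∑ a : (μ : ℚ) × Fin (Module.finrank L (A μ)), a.1 := by
      rw [show (Finset.univ : Finset ((μ : ℚ) × Fin (Module.finrank L (A μ)))) = T.sigma fun _ => Finset.univ
        from Finset.ext fun a => by simp [hT a], Finset.sum_sigma]
      refine Finset.sum_congr rfl fun μ _ => ?_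
      simp [Isoc.newtonMult, A, mul_comm]
    rw [hsum, ← e.sum_comp]
    refine mul_left_cancel₀ (show (S : ℚ) ≠ 0 by exact_mod_cast hS.ne') ?_
    rw [hkey, Finset.mul_sum]
    exact Finset.sum_congr rfl fun i _ => (hR _ (hT _)).symm
  · intro μ hμ
    simp only [T, Set.Finite.coe_toFinset, Set.mem_setOf_eq]
    intro h0
    apply hμ
    simp [Isoc.newtonMult, show Isoc.slopePart F μ = ⊥ from h0]

end Groth.Agent.IsocLib
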