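import Groth.Agent.IsocLib.Basic
import Mathlib.LinearAlgebra.Matrix.NonsingularInverse
import Mathlib.LinearAlgebra.Matrix.Basis

/-!
# Isocrystals: the determinant and stable lattices
-/

set_option autoImplicit false
set_option linter.style.haveILetI false

universe u v

noncomputable section

namespace Groth.Agent.IsocLib

variable {p : ℕ} [Fact p.Prime] {k : Type u} [Field k] [CharP k p] [PerfectRing k p]
  {N : Type v} [AddCommGroup N] [Module (FractionRing (WittVector p k)) N]
  {τ : FractionRing (WittVector p k) →+* FractionRing (WittVector p k)} {h : ℕ}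

local notation "W" => WittVector p k
local notation "L" => FractionRing (WittVector p k)
local notation "ι" => algebraMap (WittVector p k) (FractionRing (WittVector p k))

/-- The determinant coefficient of a map. -/
def detFun (b : Module.Basis (Fin h) L N) (f : N → N) : L :=
  Matrix.det (Matrix.of fun i j => b.repr (f (b j)) i)

theorem detCoeff_eq (b : Module.Basis (Fin h) L N) (F : N →ₛₗ[τ] N) : Isoc.detCoeff b F = detFun b F := rfl

theorem detFun_id (b : Module.Basis (Fin h) L N) : detFun b id = 1 := by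
  rw [detFun, show (Matrix.of fun i j => b.repr (id (b j)) i) = 1 from ?_, Matrix.det_one]
  ext i j
  simp [Matrix.one_apply, Finsupp.single_apply, eq_comm]

omit [PerfectRing k p] in
theorem repr_apply (b : Module.Basis (Fin h) L N) (F : N →ₛₗ[τ] N) (y : N) (i : Fin h) :
    b.repr (F y) i = ∑ l, b.repr (F (b l)) i * τ (b.repr y l) := by
  conv_lhs => rw [← b.sum_repr y, map_sum]
  simp [map_smulₛₗ, mul_comm]

theorem detFun_comp (b : Module.Basis (Fin h) L N) (F : N →ₛₗ[τ] N) (g : N → N) :
    detFun b (F ∘ g) = detFun b F * τ (detFun b g) := by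
  rw [detFun, detFun, detFun, RingHom.map_det, ← Matrix.det_mul]
  congr 1
  ext i j
  simp [Matrix.mul_apply, repr_apply b F (g (b j)) i]

theorem detFun_smul (b : Module.Basis (Fin h) L N) (c : L) (f : N → N) :
    detFun b (fun x => c • f x) = c ^ h * detFun b f := by
  rw [detFun, detFun, show (Matrix.of fun i j => b.repr (c • f (b j)) i) =
    c • (Matrix.of fun i j => b.repr (f (b j)) i) from ?_, Matrix.det_smul, Fintype.card_fin]
  ext i j
  simp

theorem detFun_ne_zero (b : Module.Basis (Fin h) L N) {F : N →ₛₗ[τ] N} (hF : Function.Bijective F) :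
    detFun b F ≠ 0 := by
  intro h0
  have := detFun_comp b F (Equiv.ofBijective F hF).symm
  rw [h0, zero_mul, show (F : N → N) ∘ (Equiv.ofBijective F hF).symm = id from
    funext fun x => (Equiv.ofBijective F hF).apply_symm_apply x, detFun_id] at this
  exact one_ne_zero this

theorem isOrdP_detFun_iterate [Good τ] (b : Module.Basis (Fin h) L N) (F : N →ₛₗ[τ] N) {d : ℤ}
    (hd : Isoc.IsOrdP (detFun b F) d) (n : ℕ) : Isoc.IsOrdP (detFun b (⇑F)^[n]) (n * d) := by
  induction n with
  | zero => simpa [detFun_id] using isOrdP_one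
  | succ n ih =>
    rw [Function.iterate_succ', detFun_comp, Nat.cast_succ, add_mul, one_mul, add_comm]
    exact isOrdP_mul hd (isOrdP_map τ ih)

theorem isOrdP_detFun_basis [Good τ] (b b' : Module.Basis (Fin h) L N) {F : N →ₛₗ[τ] N} {d : ℤ}
    (hd : Isoc.IsOrdP (detFun b F) d) : Isoc.IsOrdP (detFun b' F) d := by
  have hP : IsUnit (b.toMatrix b').det := by
    rw [← Matrix.isUnit_iff_isUnit_det]
    exact ⟨⟨_, _, b.toMatrix_mul_toMatrix_flip b', b'.toMatrix_mul_toMatrix_flip b⟩, rfl⟩
  have key : b.toMatrix b' * (Matrix.of fun i j => b'.repr (F (b' j)) i) =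
      (Matrix.of fun i j => b.repr (F (b j)) i) * τ.mapMatrix (b.toMatrix b') := by
    ext i j
    simp only [Matrix.mul_apply, Matrix.of_apply, RingHom.mapMatrix_apply, Matrix.map_apply,
      Module.Basis.toMatrix_apply]
    rw [← repr_apply b F (b' j) i]
    conv_rhs => rw [← b'.sum_repr (F (b' j)), map_sum]
    simp [mul_comm]
  have := congrArg Matrix.det key
  rw [Matrix.det_mul, Matrix.det_mul, ← RingHom.map_det] at this
  obtain ⟨e, he⟩ := exists_isOrdP hP.ne_zero
  obtain ⟨d', hd'⟩ : ∃ d', Isoc.IsOrdP (detFun b' F) d' := by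
    refine exists_isOrdP fun h0 => ?_
    have h2 : detFun b F * τ (b.toMatrix b').det = 0 := by
      rw [detFun, ← this]
      exact mul_eq_zero_of_right _ h0
    exact (mul_ne_zero (ne_zero_of_isOrdP hd) (ne_zero_of_isOrdP (isOrdP_map τ he))) h2
  have h1 : Isoc.IsOrdP (detFun b F * τ (b.toMatrix b').det) (e + d') := this ▸ isOrdP_mul he hd'
  have := isOrdP_unique h1 (isOrdP_mul hd (isOrdP_map τ he))
  rwa [show d = d' by omega]

theorem isOrdP_detFun_basis' [Good τ] {h' : ℕ} (b : Module.Basis (Fin h) L N)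
    (b' : Module.Basis (Fin h') L N) {F : N →ₛₗ[τ] N} {d : ℤ}
    (hd : Isoc.IsOrdP (detFun b F) d) : Isoc.IsOrdP (detFun b' F) d := by
  obtain rfl : h' = h := by
    simpa using Fintype.card_congr (b'.indexEquiv b)
  exact isOrdP_detFun_basis b b' hd

/-! ### stable lattices -/

variable [Module (WittVector p k) N] [IsScalarTower (WittVector p k) (FractionRing (WittVector p k)) N]

theorem mem_span_range_iff (b : Module.Basis (Fin h) L N) (x : N) :
    x ∈ Submodule.span W (Set.range b) ↔ ∀ i, ∃ w : W, ι w = b.repr x i :=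
  b.mem_span_iff_repr_mem W x

theorem exists_detFun_integral (b : Module.Basis (Fin h) L N) (f : N → N)
    (hf : ∀ j, f (b j) ∈ Submodule.span W (Set.range b)) : ∃ w : W, detFun b f = ι w := by
  choose w hw using fun i j => (mem_span_range_iff b _).mp (hf j) i
  refine ⟨Matrix.det (Matrix.of w), ?_⟩
  rw [RingHom.map_det, detFun]
  congr 1
  ext i j
  simp [hw]

theorem nonneg_of_stable (b : Module.Basis (Fin h) L N) (f : N → N)
    (hf : ∀ j, f (b j) ∈ Submodule.span W (Set.range b)) {d : ℤ} (hd : Isoc.IsOrdP (detFun b f) d) :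
    0 ≤ d := by
  obtain ⟨w, hw⟩ := exists_detFun_integral b f hf
  exact le_of_isOrdP_mem hd (w := w) (by rw [hw, zpow_zero, one_mul])

theorem isOrdP_zero_of_latImg_eq [Good τ] (b : Module.Basis (Fin h) L N) {G : N →ₛₗ[τ] N}
    (hG : Function.Bijective G)
    (hM : Isoc.latImg G 1 (Submodule.span W (Set.range b)) = Submodule.span W (Set.range b)) :
    Isoc.IsOrdP (detFun b G) 0 := by
  set M := Submodule.span W (Set.range b)
  let g := (Equiv.ofBijective G hG).symm
  have hg : ∀ j, g (b j) ∈ M := by
    intro j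
    obtain ⟨y, hy, e⟩ := mem_latImg.mp (hM.ge (Submodule.subset_span ⟨j, rfl⟩ : b j ∈ M))
    rw [Function.iterate_one] at e
    rw [← e]
    convert hy using 1
    exact (Equiv.ofBijective G hG).symm_apply_apply y
  have hcomp := detFun_comp b G g
  rw [show (G : N → N) ∘ g = id from funext fun x => (Equiv.ofBijective G hG).apply_symm_apply x,
    detFun_id] at hcomp
  obtain ⟨d, hd⟩ := exists_isOrdP (detFun_ne_zero b hG)
  obtain ⟨e, he⟩ := exists_isOrdP (c := detFun b g) (fun h0 => by
    rw [h0, map_zero, mul_zero] at hcomp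
    exact one_ne_zero hcomp)
  have h1 : (0 : ℤ) ≤ d := nonneg_of_stable b G (fun j =>
    hM.le (iterate_mem_latImg (F := G) (s := 1) (Submodule.subset_span ⟨j, rfl⟩))) hd
  have h2 : (0 : ℤ) ≤ e := nonneg_of_stable b g hg he
  have h3 := isOrdP_unique (isOrdP_mul hd (isOrdP_map τ he)) (hcomp ▸ isOrdP_one)
  rwa [show (0 : ℤ) = d by omega]

theorem latImg_eq_of_isOrdP_zero [Good τ] (b : Module.Basis (Fin h) L N) {G : N →ₛₗ[τ] N}
    (hle : Isoc.latImg G 1 (Submodule.span W (Set.range b)) ≤ Submodule.span W (Set.range b))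
    (hd : Isoc.IsOrdP (detFun b G) 0) :
    Isoc.latImg G 1 (Submodule.span W (Set.range b)) = Submodule.span W (Set.range b) := by
  refine le_antisymm hle (Submodule.span_le.mpr ?_)
  choose w hw using fun i j =>
    (mem_span_range_iff b _).mp (hle (iterate_mem_latImg (F := G) (s := 1) (Submodule.subset_span ⟨j, rfl⟩))) i
  simp only [Function.iterate_one] at hw
  have hdet : ι (Matrix.det (Matrix.of w)) = detFun b G := by
    rw [RingHom.map_det, detFun]
    congr 1
    ext i j
    simp [hw]
  have hu : IsUnit (Matrix.det (Matrix.of w)) := isUnit_of_isOrdP_zero (hdet.symm ▸ hd)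
  rintro _ ⟨i₀, rfl⟩
  let v : Fin h → W := (Matrix.of w)⁻¹.mulVec (Pi.single i₀ 1)
  choose w' hw' using fun j => exists_map_wsmul_eq G (v j)
  refine mem_latImg.mpr ⟨∑ j, w' j • b j,
    Submodule.sum_mem _ fun j _ => Submodule.smul_mem _ _ (Submodule.subset_span ⟨j, rfl⟩), ?_⟩
  rw [Function.iterate_one, map_sum]
  refine b.repr.injective (Finsupp.ext fun i => ?_)
  have hv : (Matrix.of w).mulVec v i = (Pi.single i₀ 1 : Fin h → W) i := by
    simp only [v, Matrix.mulVec_mulVec, Matrix.mul_nonsing_inv _ hu, Matrix.one_mulVec]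
  simp only [hw', map_sum, Finsupp.finsetSum_apply, ← IsScalarTower.algebraMap_smul L (v _), map_smul,
    Finsupp.smul_apply, smul_eq_mul, ← hw, ← map_mul]
  rw [← map_sum, show ∑ j, v j * w i j = (Matrix.of w).mulVec v i by
    simp [Matrix.mulVec, dotProduct, mul_comm], hv]
  rcases eq_or_ne i i₀ with rfl | hne
  · simp
  · simp [hne, hne.symm]

/-! ### chains in a lattice modulo `p` -/

theorem exists_eq_succ_of_chain [Module.Finite L N] {M : Submodule W N} (hM : M.IsLattice L)
    (X : ℕ → Submodule W N) (n : ℕ) (hn : Module.finrank L N ≤ n)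
    (hlow : ∀ i, i ≤ n + 1 → Isoc.pPow 1 M ≤ X i) (hup : ∀ i, i ≤ n + 1 → X i ≤ M)
    (hmono : ∀ i, i ≤ n → X i ≤ X (i + 1)) : ∃ j, j ≤ n ∧ X j = X (j + 1) := by
  obtain ⟨b, rfl⟩ := exists_basis hM
  have hrep : ∀ x : ↥(Submodule.span W (Set.range b)), ∀ i, ∃ w : W, ι w = b.repr (x : N) i := fun x =>
    (mem_span_range_iff b _).mp x.2
  choose w hw using hrep
  let M' : Submodule W N := Submodule.span W (Set.range b)
  let red : M' → (Fin (Module.finrank L N) → k) := fun x i => WittVector.constantCoeff (w x i)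
  have hadd : ∀ x y, red (x + y) = red x + red y := fun x y => funext fun i => by
    have : w (x + y) i = w x i + w y i := IsFractionRing.injective W L (by
      rw [map_add, hw, hw, hw, Submodule.coe_add, map_add, Finsupp.add_apply])
    simp only [red, this, map_add, Pi.add_apply]
  have hsm : ∀ (c : W) x, red (c • x) = WittVector.constantCoeff c • red x := fun c x => funext fun i => by
    have : w (c • x) i = c * w x i := IsFractionRing.injective W L (by
      rw [map_mul, hw, hw, Submodule.coe_smul, ← IsScalarTower.algebraMap_smul L c (x : N), map_smul,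
        Finsupp.smul_apply, smul_eq_mul])
    simp only [red, this, map_mul, Pi.smul_apply, smul_eq_mul]
  have hker : ∀ x : M', red x = 0 → (x : N) ∈ Isoc.pPow 1 M' := by
    intro x hx
    rw [mem_pPow]
    refine (mem_span_range_iff b _).mpr ?_
    intro i
    have h0 : (w x i).coeff 0 = 0 := congr_fun hx i
    obtain ⟨c, hc⟩ := Ideal.mem_span_singleton'.mp ((WittVector.mem_span_p_iff_coeff_zero_eq_zero _).mpr h0)
    refine ⟨c, ?_⟩
    rw [map_smul, Finsupp.smul_apply, smul_eq_mul, ← hw, ← hc, map_mul, map_natCast, zpow_neg, zpow_one,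
      mul_comm (ι c), ← mul_assoc, inv_mul_cancel₀ pL_ne_zero, one_mul]
  let V : Submodule W N → Submodule k (Fin (Module.finrank L N) → k) := fun Y =>
    { carrier := red '' {x | (x : N) ∈ Y}
      zero_mem' := ⟨0, Y.zero_mem, funext fun i => by
        have : w (0 : M') i = 0 := IsFractionRing.injective W L (by
          rw [map_zero, hw, Submodule.coe_zero, map_zero, Finsupp.zero_apply])
        simp [red, this]⟩
      add_mem' := by
        rintro _ _ ⟨x, hx, rfl⟩ ⟨y, hy, rfl⟩
        exact ⟨x + y, Y.add_mem hx hy, hadd x y⟩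
      smul_mem' := by
        rintro c _ ⟨x, hx, rfl⟩
        obtain ⟨c', rfl⟩ := WittVector.constantCoeff_surjective p c
        exact ⟨c' • x, Y.smul_mem _ hx, hsm c' x⟩ }
  have hVmono : ∀ {Y Y'}, Y ≤ Y' → V Y ≤ V Y' := fun h => Set.image_mono fun x hx => h hx
  have hVinj : ∀ {Y Y'}, Y' ≤ M' → Isoc.pPow 1 M' ≤ Y → Y ≤ Y' → V Y = V Y' → Y = Y' := by
    intro Y Y' hY' hl h e
    refine le_antisymm h fun y hy => ?_
    obtain ⟨x, hx, hxe⟩ := e.ge (⟨⟨y, hY' hy⟩, hy, rfl⟩ : red ⟨y, hY' hy⟩ ∈ V Y')
    have : red (⟨y, hY' hy⟩ - x) = 0 := by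
      have h2 := hadd (⟨y, hY' hy⟩ - x) x
      rw [sub_add_cancel, hxe] at h2
      exact right_eq_add.mp h2
    have h2 := hl (hker _ this)
    have : y = (y - (x : N)) + x := (sub_add_cancel y _).symm
    rw [this]
    exact Y.add_mem h2 hx
  by_contra hne
  push Not at hne
  have key : ∀ i, i ≤ n + 1 → i ≤ Module.finrank k (V (X i)) := by
    intro i
    induction i with
    | zero => exact fun _ => Nat.zero_le _
    | succ i ih =>
      intro hi
      refine (ih (by omega)).trans_lt (Submodule.finrank_lt_finrank_of_lt (lt_of_le_of_ne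
        (hVmono (hmono i (by omega))) fun e => hne i (by omega) ?_))
      exact hVinj (hup _ hi) (hlow i (by omega)) (hmono i (by omega)) e
  have h1 := (key (n + 1) le_rfl).trans (Submodule.finrank_le _)
  rw [Module.finrank_fin_fun] at h1
  omega

end Groth.Agent.IsocLib
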