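import Groth.Agent.IsocLib.Lang
import Mathlib.FieldTheory.Finite.Basic
import Mathlib.LinearAlgebra.Charpoly.ToMatrix
import Mathlib.LinearAlgebra.Matrix.Charpoly.Eigs
import Mathlib.LinearAlgebra.Projection
import Mathlib.RingTheory.IntegralClosure.IntegrallyClosed
import Mathlib.FieldTheory.IsAlgClosed.Spectrum

/-!
# Isocrystals over a finite field: slopes and eigenvalues of `F^m`
-/

set_option autoImplicit false
set_option linter.style.haveILetI false

universe u v w

noncomputable section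

open Polynomial

namespace Groth.Agent.IsocLib

variable {p : ℕ} [Fact p.Prime] {k : Type u} [Field k] [CharP k p] [PerfectRing k p]
  {N : Type v} [AddCommGroup N] [Module (WittVector p k) N]
  [Module (FractionRing (WittVector p k)) N]
  [IsScalarTower (WittVector p k) (FractionRing (WittVector p k)) N]
  {Ω : Type w} [Field Ω] [IsAlgClosed Ω] [Algebra (WittVector p k) Ω]
  [Algebra (FractionRing (WittVector p k)) Ω]
  [IsScalarTower (WittVector p k) (FractionRing (WittVector p k)) Ω]

local notation "W" => WittVector p k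
local notation "L" => FractionRing (WittVector p k)
local notation "ι" => algebraMap (WittVector p k) (FractionRing (WittVector p k))

theorem frob_pow_eq_id [Fintype k] {m : ℕ} (hk : Fintype.card k = p ^ m) (a : ℤ) :
    Isoc.frob p k a ^ m = RingHom.id L := by
  have h1 : (WittVector.frobeniusEquiv p k) ^ (m : ℤ) = 1 := by
    refine RingEquiv.ext fun w => WittVector.ext fun n => ?_
    show (frobW m w).coeff n = w.coeff n
    rw [frobW_coeff, ← hk, FiniteField.pow_card]
  refine IsLocalization.ringHom_ext (nonZeroDivisors W) (RingHom.ext fun w => ?_)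
  simp only [RingHom.comp_apply, RingHom.id_apply]
  rw [frob_pow_algebraMap, mul_comm, zpow_mul, h1, one_zpow]
  rfl

theorem aeval_restrict (π : N →ₗ[L] N) {P : Submodule L N} (hP : ∀ x ∈ P, π x ∈ P) (f : L[X]) (y : P) :
    ((aeval (π.restrict hP) f y : P) : N) = aeval π f (y : N) := by
  induction f using Polynomial.induction_on' with
  | add f g hf hg => simp [map_add, hf, hg]
  | monomial n c =>
    simp only [aeval_monomial, Module.End.mul_apply, Module.algebraMap_end_apply, Submodule.coe_smul]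
    congr 1
    induction n with
    | zero => simp
    | succ n ih => rw [pow_succ', pow_succ', Module.End.mul_apply, Module.End.mul_apply, ← ih]; rfl

variable (Ω) in
/-- A polynomial killing an endomorphism kills the roots of its characteristic polynomial. -/
theorem aeval_eq_zero_of_mem_roots {X : Type v} [AddCommGroup X] [Module L X] [Module.Finite L X]
    (φ : X →ₗ[L] X) {f : L[X]} (hf : aeval φ f = 0) {α : Ω}
    (hα : α ∈ (φ.charpoly.map (algebraMap L Ω)).roots) : aeval α f = 0 := by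
  classical
  let b := Module.finBasis L X
  let A : Matrix _ _ L := LinearMap.toMatrixAlgEquiv b φ
  let B : Matrix _ _ Ω := (Algebra.ofId L Ω).mapMatrix A
  rcases isEmpty_or_nonempty (Fin (Module.finrank L X)) with h | h
  · rw [← LinearMap.charpoly_toMatrix φ b] at hα
    simp at hα
  have hB : aeval B f = 0 := by
    rw [show B = (Algebra.ofId L Ω).mapMatrix A from rfl, aeval_algHom_apply,
      show A = (LinearMap.toMatrixAlgEquiv b).toAlgHom φ from rfl, aeval_algHom_apply, hf, map_zero, map_zero]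
  have hspec : α ∈ spectrum Ω B := by
    rw [Matrix.mem_spectrum_iff_isRoot_charpoly]
    have h2 : B.charpoly = φ.charpoly.map (algebraMap L Ω) := by
      rw [← LinearMap.charpoly_toMatrix φ b, ← Matrix.charpoly_map]
      rfl
    rw [h2]
    exact isRoot_of_mem_roots hα
  have h3 := spectrum.subset_polynomial_aeval B (f.map (algebraMap L Ω)) ⟨α, hspec, rfl⟩
  rw [aeval_map_algebraMap, hB, spectrum.zero_eq, Set.mem_singleton_iff] at h3
  dsimp only at h3
  rwa [eval_map_algebraMap] at h3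

theorem isIntegral_inv_of_root {β : Ω} {g : W[X]} (hg : g.Monic) (h0 : IsUnit (g.coeff 0))
    (hβ : aeval β g = 0) : β ≠ 0 ∧ IsIntegral W β ∧ IsIntegral W β⁻¹ := by
  have hint : IsIntegral W β := ⟨g, hg, hβ⟩
  obtain ⟨u, hu⟩ := h0
  have h1 : β * (-(algebraMap W Ω ↑u⁻¹) * aeval β g.divX) = 1 := by
    have h2 := congrArg (aeval β) g.divX_mul_X_add
    rw [map_add, map_mul, aeval_X, aeval_C, hβ, ← hu] at h2
    have h3 : algebraMap W Ω ↑u⁻¹ * algebraMap W Ω ↑u = 1 := by rw [← map_mul, u.inv_mul, map_one]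
    linear_combination (-algebraMap W Ω ↑u⁻¹) * h2 + h3
  refine ⟨left_ne_zero_of_mul_eq_one h1, hint, ?_⟩
  rw [inv_eq_of_mul_eq_one_right h1]
  exact (isIntegral_algebraMap.neg).mul
    (Algebra.adjoin_le (S := integralClosure W Ω) (Set.singleton_subset_iff.mpr hint)
      (aeval_mem_adjoin_singleton W β))

theorem not_isIntegral_inv_p : ¬ IsIntegral W (algebraMap L Ω (p : L))⁻¹ := by
  intro h
  rw [← map_inv₀] at h
  rw [isIntegral_algebraMap_iff (algebraMap L Ω).injective, IsIntegrallyClosed.isIntegral_iff] at h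
  obtain ⟨w, hw⟩ := h
  have := le_of_isOrdP_mem (c := ((p : L)⁻¹)) (r := 0) (e := -1)
    (by simpa using isOrdP_zpow (p := p) (k := k) (-1)) (w := w) (by rw [hw, zpow_zero, one_mul])
  omega

/-- the test element attached to a slope -/
abbrev slopeTest (m : ℕ) (μ : ℚ) (α : Ω) : Ω :=
  α ^ μ.den * (algebraMap L Ω (p : L)) ^ (-(μ.num * (m : ℤ)))

variable (Ω) in
theorem slopeTest_of_isoclinic {a : ℤ} {m : ℕ} {F : N →ₛₗ[Isoc.frob p k a] N} [Module.Finite L N]
    (hτ : Isoc.frob p k a ^ m = RingHom.id L) (hF : Function.Bijective F) {π : N →ₗ[L] N}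
    (hπ : ∀ x, π x = (⇑F)^[m] x) {μ : ℚ} (hμ : Isoc.IsIsoclinic F μ) {α : Ω}
    (hα : α ∈ (π.charpoly.map (algebraMap L Ω)).roots) :
    α ≠ 0 ∧ IsIntegral W (slopeTest (p := p) (k := k) m μ α) ∧
      IsIntegral W (slopeTest (p := p) (k := k) m μ α)⁻¹ := by
  classical
  obtain ⟨M, hM, r, s, hs, hrs, heq⟩ := hμ
  obtain ⟨b, rfl⟩ := exists_basis hM
  set G := norIter F ((m : ℤ) * r) (s * m)
  have hG := norIter_bijective hF ((m : ℤ) * r) (s * m)
  have hGM := (latImg_eq_pPow_iff F ((m : ℤ) * r) (s * m) _).mp (latImg_eq_mul heq m)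
  choose A hA using fun i j => (mem_span_range_iff b _).mp
    (hGM.le (iterate_mem_latImg (F := G) (s := 1) (Submodule.subset_span ⟨j, rfl⟩))) i
  simp only [Function.iterate_one] at hA
  let U : N →ₗ[L] N := ((p : L) ^ (-((m : ℤ) * r))) • π ^ s
  have hU : ∀ x, U x = G x := by
    intro x
    show (p : L) ^ (-((m : ℤ) * r)) • (π ^ s) x = (p : L) ^ (-((m : ℤ) * r)) • (⇑F)^[s * m] x
    rw [Module.End.pow_apply, show (π : N → N) = (⇑F)^[m] from funext hπ, ← Function.iterate_mul, Nat.mul_comm m s]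
  have hAU : (Matrix.of A).map ι = LinearMap.toMatrix b b U := by
    ext i j
    rw [Matrix.map_apply, Matrix.of_apply, LinearMap.toMatrix_apply, hU, hA]
  have hdet : ι (Matrix.det (Matrix.of A)) = detFun b G := by
    rw [RingHom.map_det, detFun]
    congr 1
    ext i j
    simp [hA]
  have hunit := isUnit_of_isOrdP_zero (hdet.symm ▸ isOrdP_zero_of_latImg_eq b hG hGM)
  set g := (Matrix.of A).charpoly
  have hg0 : IsUnit (g.coeff 0) := by
    rw [Matrix.det_eq_sign_charpoly_coeff] at hunit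
    exact isUnit_of_mul_isUnit_right hunit
  have hgU : aeval U (g.map ι) = 0 := by
    rw [← Matrix.charpoly_map, hAU, LinearMap.charpoly_toMatrix, LinearMap.aeval_self_charpoly]
  let f : L[X] := (g.map ι).comp (C ((p : L) ^ (-((m : ℤ) * r))) * X ^ s)
  have hf : aeval π f = 0 := by
    rw [show f = (g.map ι).comp (C ((p : L) ^ (-((m : ℤ) * r))) * X ^ s) from rfl, aeval_comp, map_mul, map_pow,
      aeval_X, aeval_C, ← Algebra.smul_def]
    exact hgU
  have hroot := aeval_eq_zero_of_mem_roots Ω π hf hα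
  set c := algebraMap L Ω (p : L) with hcdef
  have hc : c ≠ 0 := (_root_.map_ne_zero _).mpr pL_ne_zero
  rw [show f = (g.map ι).comp (C ((p : L) ^ (-((m : ℤ) * r))) * X ^ s) from rfl, aeval_comp, map_mul, map_pow,
    aeval_X, aeval_C, map_zpow₀, aeval_map_algebraMap, ← hcdef] at hroot
  obtain ⟨h0, h1, h2⟩ := isIntegral_inv_of_root (Matrix.charpoly_monic _) hg0 hroot
  have hnd : r * μ.den = μ.num * s := cross_eq hs μ.pos (hrs.trans μ.num_div_den.symm)
  have hγ : slopeTest (p := p) (k := k) m μ α ^ s = (c ^ (-((m : ℤ) * r)) * α ^ s) ^ μ.den := by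
    rw [slopeTest, ← hcdef, mul_pow, mul_pow, ← pow_mul, ← pow_mul, ← zpow_natCast (c ^ (-(μ.num * (m : ℤ)))),
      ← zpow_natCast (c ^ (-((m : ℤ) * r))), ← zpow_mul, ← zpow_mul, mul_comm μ.den s, mul_comm]
    congr 1
    congr 1
    linear_combination (m : ℤ) * hnd
  refine ⟨fun e => h0 (by rw [e, zero_pow hs.ne', mul_zero]), IsIntegral.of_pow hs (hγ ▸ h1.pow μ.den),
    IsIntegral.of_pow hs ?_⟩
  rw [inv_pow, hγ, ← inv_pow]
  exact h2.pow μ.den

theorem slope_unique {m : ℕ} (hm : 0 < m) {μ ν : ℚ} {α : Ω} (hα : α ≠ 0)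
    (h1 : IsIntegral W (slopeTest (p := p) (k := k) m μ α) ∧ IsIntegral W (slopeTest (p := p) (k := k) m μ α)⁻¹)
    (h2 : IsIntegral W (slopeTest (p := p) (k := k) m ν α) ∧ IsIntegral W (slopeTest (p := p) (k := k) m ν α)⁻¹) :
    μ = ν := by
  by_contra hne
  set c := algebraMap L Ω (p : L) with hcdef
  have hc : c ≠ 0 := (_root_.map_ne_zero _).mpr pL_ne_zero
  let e : ℤ := (ν.num * μ.den - μ.num * ν.den) * m
  have he : e ≠ 0 := mul_ne_zero (fun h => hne (Rat.eq_iff_mul_eq_mul.mpr (by linarith))) (by omega)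
  have key : slopeTest (p := p) (k := k) m μ α ^ ν.den * ((slopeTest (p := p) (k := k) m ν α)⁻¹) ^ μ.den = c ^ e := by
    rw [slopeTest, slopeTest, ← hcdef, mul_inv, mul_pow, mul_pow, inv_pow, ← pow_mul, ← pow_mul, mul_comm ν.den,
      ← zpow_natCast (c ^ (-(μ.num * (m : ℤ)))), ← zpow_mul, inv_pow, ← zpow_natCast (c ^ (-(ν.num * (m : ℤ)))),
      ← zpow_mul, ← zpow_neg]
    calc _ = (α ^ (μ.den * ν.den) * (α ^ (μ.den * ν.den))⁻¹) *
          (c ^ (-(μ.num * (m : ℤ)) * (ν.den : ℤ)) * c ^ (-(-(ν.num * (m : ℤ)) * (μ.den : ℤ)))) := by ring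
      _ = c ^ e := by
        rw [mul_inv_cancel₀ (pow_ne_zero _ hα), one_mul, ← zpow_add₀ hc]
        congr 1
        simp only [e]
        ring
  have key' : (slopeTest (p := p) (k := k) m μ α)⁻¹ ^ ν.den * slopeTest (p := p) (k := k) m ν α ^ μ.den = c ^ (-e) := by
    rw [zpow_neg, ← key]
    generalize slopeTest (p := p) (k := k) m μ α = x
    generalize slopeTest (p := p) (k := k) m ν α = y
    rw [mul_inv, inv_pow, inv_pow, inv_inv]
  have i1 : IsIntegral W (c ^ e) := key ▸ (h1.1.pow _).mul (h2.2.pow _)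
  have i2 : IsIntegral W (c ^ (-e)) := key' ▸ (h1.2.pow _).mul (h2.1.pow _)
  obtain ⟨n, hn, hi⟩ : ∃ n : ℕ, 0 < n ∧ IsIntegral W ((c⁻¹) ^ n) := by
    refine ⟨e.natAbs, by omega, ?_⟩
    rw [inv_pow, ← zpow_natCast, ← zpow_neg]
    rcases Int.natAbs_eq e with h | h <;> rw [h] at i1 i2
    · exact i2
    · exact i1
  exact not_isIntegral_inv_p (Ω := Ω) (IsIntegral.of_pow hn hi)

theorem newtonMult_eq_countP [Fintype k] {m : ℕ} (hk : Fintype.card k = p ^ m) {a : ℤ} [Module.Finite L N]
    {F : N →ₛₗ[Isoc.frob p k a] N} (hF : Isoc.IsIsoc F) {π : N →ₗ[L] N} (hπ : ∀ x, π x = (⇑F)^[m] x) (μ : ℚ)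
    (P : Ω → Prop) [DecidablePred P]
    (hP : ∀ α, P α ↔ IsIntegral W (slopeTest (p := p) (k := k) m μ α) ∧
      IsIntegral W (slopeTest (p := p) (k := k) m μ α)⁻¹) :
    Isoc.newtonMult F μ = Multiset.countP P ((π.charpoly.map (algebraMap L Ω)).roots) := by
  classical
  have hm : 0 < m := Nat.pos_of_ne_zero fun h => by
    rw [h, pow_zero] at hk
    exact absurd hk (Fintype.one_lt_card).ne'
  have hτ := frob_pow_eq_id hk a
  set A := Isoc.slopePart F μ
  set B : Submodule L N := ⨆ ν ≠ μ, Isoc.slopePart F ν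
  have hc : IsCompl A B := by
    refine ⟨(iSupIndep_def.mp (iSupIndep_slopePart hF.bijective)) μ, codisjoint_iff.mpr ?_⟩
    rw [eq_top_iff, ← iSup_slopePart_eq_top hF.bijective, iSup_le_iff]
    intro ν
    rcases eq_or_ne ν μ with rfl | hne
    · exact le_sup_left
    · exact le_trans (le_iSup₂ (f := fun ν (_ : ν ≠ μ) => Isoc.slopePart F ν) ν hne) le_sup_right
  have hstab : ∀ ν, ∀ x ∈ Isoc.slopePart F ν, π x ∈ Isoc.slopePart F ν := fun ν x hx => by
    rw [hπ]
    exact Set.MapsTo.iterate (fun y hy => (isoclinicOn_slopePart F ν).1 y hy) m hx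
  have hB : ∀ x ∈ B, π x ∈ B := by
    have : B ≤ B.comap π := iSup₂_le fun ν hν x hx =>
      Submodule.mem_comap.mpr ((le_iSup₂ (f := fun ν (_ : ν ≠ μ) => Isoc.slopePart F ν) ν hν) (hstab ν x hx))
    exact fun x hx => this hx
  set πA := π.restrict (hstab μ)
  set πB := π.restrict hB
  have hprod : π.charpoly = πA.charpoly * πB.charpoly := by
    rw [← LinearMap.charpoly_prodMap, ← (Submodule.prodEquivOfIsCompl A B hc).charpoly_conj]
    congr 1
    refine LinearMap.ext fun x => ?_
    obtain ⟨⟨y, z⟩, rfl⟩ := (Submodule.prodEquivOfIsCompl A B hc).surjective x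
    rw [LinearEquiv.conj_apply_apply, LinearEquiv.symm_apply_apply]
    simp only [Submodule.coe_prodEquivOfIsCompl', LinearMap.prodMap_apply, map_add]
    rfl
  have hroots : ∀ ν, ∀ α ∈ ((π.restrict (hstab ν)).charpoly.map (algebraMap L Ω)).roots,
      α ≠ 0 ∧ IsIntegral W (slopeTest (p := p) (k := k) m ν α) ∧
        IsIntegral W (slopeTest (p := p) (k := k) m ν α)⁻¹ := fun ν α hα => by
    have h := isoclinicOn_slopePart F ν
    exact slopeTest_of_isoclinic Ω hτ (bijective_restrict hF.bijective h.1)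
      (π := π.restrict (hstab ν))
      (fun x => Subtype.ext ((hπ x).trans
        (iterate_intertwine (Isoc.slopePart F ν).subtype (F := F.restrict h.1) (F' := F) (fun _ => rfl) m x).symm))
      ((isIsoclinic_restrict_iff h.1).mpr h) hα
  have hne : ∀ φ : L[X], φ.Monic → φ.map (algebraMap L Ω) ≠ 0 := fun φ h => (h.map _).ne_zero
  rw [hprod, Polynomial.map_mul, Polynomial.roots_mul (mul_ne_zero (hne _ (LinearMap.charpoly_monic _))
    (hne _ (LinearMap.charpoly_monic _))), Multiset.countP_add]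
  have hA : Multiset.countP P (πA.charpoly.map (algebraMap L Ω)).roots = Isoc.newtonMult F μ := by
    rw [Multiset.countP_eq_card.mpr fun α hα => (hP α).mpr (hroots μ α hα).2,
      ← (IsAlgClosed.splits _).natDegree_eq_card_roots, Polynomial.natDegree_map, LinearMap.charpoly_natDegree]
    rfl
  have hB0 : Multiset.countP P (πB.charpoly.map (algebraMap L Ω)).roots = 0 := by
    rw [Multiset.countP_eq_zero]
    intro α hα hPα
    let T := (Submodule.finite_ne_bot_of_iSupIndep (iSupIndep_slopePart hF.bijective)).toFinset.erase μ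
    let f : L[X] := ∏ ν ∈ T, (π.restrict (hstab ν)).charpoly
    have hf : aeval πB f = 0 := by
      have hker : B ≤ LinearMap.ker (aeval π f) := iSup₂_le fun ν hν x hx => by
        rw [LinearMap.mem_ker]
        rcases eq_or_ne (Isoc.slopePart F ν) ⊥ with h0 | h0
        · rw [h0, Submodule.mem_bot] at hx
          rw [hx, map_zero]
        obtain ⟨f', hf'⟩ : (π.restrict (hstab ν)).charpoly ∣ f :=
          Finset.dvd_prod_of_mem _ (Finset.mem_erase.mpr ⟨hν, (Set.Finite.mem_toFinset _).mpr h0⟩)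
        rw [show x = ((⟨x, hx⟩ : Isoc.slopePart F ν) : N) from rfl, ← aeval_restrict π (hstab ν), hf',
          map_mul, LinearMap.aeval_self_charpoly, zero_mul]
        rfl
      refine LinearMap.ext fun y => Subtype.ext ?_
      rw [aeval_restrict π hB f y]
      exact LinearMap.mem_ker.mp (hker y.2)
    have h := aeval_eq_zero_of_mem_roots Ω πB hf hα
    rw [map_prod] at h
    obtain ⟨ν, hν, hν'⟩ := Finset.prod_eq_zero_iff.mp h
    have hr := hroots ν α ((Polynomial.mem_roots (hne _ (LinearMap.charpoly_monic _))).mpr (by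
      rwa [Polynomial.IsRoot, Polynomial.eval_map_algebraMap]))
    exact (Finset.mem_erase.mp hν).1 (slope_unique hm hr.1 ((hP α).mp hPα) hr.2).symm
  rw [hA, hB0, add_zero]

end Groth.Agent.IsocLib
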