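import Groth.Agent.IsocLib.Slope
import Mathlib.LinearAlgebra.Dimension.Finite
import Mathlib.LinearAlgebra.FiniteDimensional.Lemmas

/-!
# Isocrystals: isoclinic subspaces
-/

set_option autoImplicit false
set_option linter.style.haveILetI false

universe u v w

noncomputable section

namespace Groth.Agent.IsocLib

variable {p : ℕ} [Fact p.Prime] {k : Type u} [Field k] [CharP k p] [PerfectRing k p]
  {N : Type v} [AddCommGroup N] [Module (WittVector p k) N]
  [Module (FractionRing (WittVector p k)) N]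
  [IsScalarTower (WittVector p k) (FractionRing (WittVector p k)) N]
  {N' : Type w} [AddCommGroup N'] [Module (WittVector p k) N']
  [Module (FractionRing (WittVector p k)) N']
  [IsScalarTower (WittVector p k) (FractionRing (WittVector p k)) N']
  {τ : FractionRing (WittVector p k) →+* FractionRing (WittVector p k)} [Good τ]

local notation "W" => WittVector p k
local notation "L" => FractionRing (WittVector p k)
local notation "ι" => algebraMap (WittVector p k) (FractionRing (WittVector p k))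

/-- `P` is stable and isoclinic of slope `μ`, all data inside `N`. -/
def IsoclinicOn (F : N →ₛₗ[τ] N) (μ : ℚ) (P : Submodule L N) : Prop :=
  (∀ x ∈ P, F x ∈ P) ∧ ∃ M : Submodule W N, M.FG ∧ Submodule.span L (M : Set N) = P ∧
    ∃ (r : ℤ) (s : ℕ), 0 < s ∧ (r : ℚ) / s = μ ∧ Isoc.latImg F s M = Isoc.pPow r M

theorem isoclinicOn_top_iff {F : N →ₛₗ[τ] N} {μ : ℚ} :
    IsoclinicOn F μ ⊤ ↔ Isoc.IsIsoclinic F μ := by
  constructor
  · rintro ⟨-, M, hfg, hspan, h⟩; exact ⟨M, ⟨hfg, hspan⟩, h⟩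
  · rintro ⟨M, hM, h⟩; exact ⟨fun _ _ => trivial, M, hM.fg, hM.span_eq_top, h⟩

/-! ### transport along linear maps -/

theorem iterate_intertwine {F : N →ₛₗ[τ] N} {F' : N' →ₛₗ[τ] N'} (f : N →ₗ[L] N')
    (hf : ∀ x, f (F x) = F' (f x)) (s : ℕ) (x : N) : f ((⇑F)^[s] x) = (⇑F')^[s] (f x) := by
  induction s with
  | zero => rfl
  | succ s ih => rw [Function.iterate_succ_apply', Function.iterate_succ_apply', hf, ih]

/-- image of a `W`-submodule -/
abbrev latMap (f : N →ₗ[L] N') (M : Submodule W N) : Submodule W N' := M.map (f.restrictScalars W)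

theorem mem_latMap {f : N →ₗ[L] N'} {M : Submodule W N} {y : N'} :
    y ∈ latMap f M ↔ ∃ x ∈ M, f x = y := Submodule.mem_map

theorem latImg_latMap {F : N →ₛₗ[τ] N} {F' : N' →ₛₗ[τ] N'} (f : N →ₗ[L] N')
    (hf : ∀ x, f (F x) = F' (f x)) (s : ℕ) (M : Submodule W N) :
    Isoc.latImg F' s (latMap f M) = latMap f (Isoc.latImg F s M) := by
  refine le_antisymm (latImg_le_iff.mpr ?_) ?_
  · intro y hy
    obtain ⟨x, hx, rfl⟩ := mem_latMap.mp hy
    exact mem_latMap.mpr ⟨_, iterate_mem_latImg hx, iterate_intertwine f hf s x⟩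
  · intro y hy
    obtain ⟨_, hz, rfl⟩ := mem_latMap.mp hy
    obtain ⟨x, hx, rfl⟩ := mem_latImg.mp hz
    rw [iterate_intertwine f hf s x]
    exact iterate_mem_latImg (mem_latMap.mpr ⟨x, hx, rfl⟩)

theorem pPow_latMap (f : N →ₗ[L] N') (r : ℤ) (M : Submodule W N) :
    Isoc.pPow r (latMap f M) = latMap f (Isoc.pPow r M) := by
  ext y
  rw [mem_pPow, mem_latMap, mem_latMap]
  constructor
  · rintro ⟨x, hx, e⟩
    exact ⟨_, smul_mem_pPow (r := r) hx, by rw [map_smul, e, smul_smul, ← zpow_add₀ pL_ne_zero, add_neg_cancel,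
      zpow_zero, one_smul]⟩
  · rintro ⟨x, hx, rfl⟩
    exact ⟨_, mem_pPow.mp hx, by rw [map_smul]⟩

theorem span_latMap (f : N →ₗ[L] N') (M : Submodule W N) :
    Submodule.span L (latMap f M : Set N') = (Submodule.span L (M : Set N)).map f := by
  rw [Submodule.map_coe, LinearMap.coe_restrictScalars, Submodule.map_span]

theorem IsoclinicOn.map {F : N →ₛₗ[τ] N} {F' : N' →ₛₗ[τ] N'} {μ : ℚ} {P : Submodule L N}
    (h : IsoclinicOn F μ P) (f : N →ₗ[L] N') (hf : ∀ x, f (F x) = F' (f x)) :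
    IsoclinicOn F' μ (P.map f) := by
  obtain ⟨hP, M, hfg, hspan, r, s, hs, hrs, heq⟩ := h
  refine ⟨?_, latMap f M, hfg.map _, by rw [span_latMap, hspan], r, s, hs, hrs, ?_⟩
  · intro y hy
    obtain ⟨x, hx, rfl⟩ := Submodule.mem_map.mp hy
    exact ⟨F x, hP x hx, hf x⟩
  · rw [latImg_latMap f hf, heq, pPow_latMap]

theorem IsoclinicOn.of_map {F : N →ₛₗ[τ] N} {F' : N' →ₛₗ[τ] N'} {μ : ℚ} {P : Submodule L N}
    (f : N →ₗ[L] N') (hinj : Function.Injective f) (hf : ∀ x, f (F x) = F' (f x))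
    (h : IsoclinicOn F' μ (P.map f)) : IsoclinicOn F μ P := by
  obtain ⟨hP, M, hfg, hspan, r, s, hs, hrs, heq⟩ := h
  let M' : Submodule W N := M.comap (f.restrictScalars W)
  have hM : latMap f M' = M := by
    refine Submodule.map_comap_eq_self fun y hy => ?_
    have hy' : y ∈ P.map f := hspan ▸ Submodule.subset_span hy
    obtain ⟨x, -, rfl⟩ := Submodule.mem_map.mp hy'
    exact ⟨x, rfl⟩
  refine ⟨fun x hx => ?_, M', ?_, ?_, r, s, hs, hrs, ?_⟩
  · obtain ⟨z, hz, e⟩ := Submodule.mem_map.mp (hP _ (Submodule.mem_map_of_mem hx))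
    rw [← hf] at e
    exact hinj e ▸ hz
  · refine Submodule.fg_of_fg_map_injective (f.restrictScalars W) hinj ?_
    show (latMap f M').FG
    rwa [hM]
  · refine Submodule.map_injective_of_injective hinj ?_
    rw [← span_latMap, hM, hspan]
  · refine Submodule.map_injective_of_injective (f := f.restrictScalars W) hinj ?_
    show latMap f _ = latMap f _
    rw [← latImg_latMap f hf, ← pPow_latMap, hM, heq]

theorem isIsoclinic_restrict_iff {F : N →ₛₗ[τ] N} {μ : ℚ} {P : Submodule L N}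
    (hP : ∀ x ∈ P, F x ∈ P) : Isoc.IsIsoclinic (F.restrict hP) μ ↔ IsoclinicOn F μ P := by
  have hf : ∀ x : P, P.subtype (F.restrict hP x) = F (P.subtype x) := fun x => rfl
  rw [← isoclinicOn_top_iff]
  constructor
  · intro h
    have := h.map P.subtype hf
    rwa [Submodule.map_subtype_top] at this
  · intro h
    exact IsoclinicOn.of_map P.subtype Subtype.val_injective hf (by rwa [Submodule.map_subtype_top])

/-! ### stable subspaces -/

theorem Good.bijective (τ : L →+* L) [Good τ] : Function.Bijective τ :=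
  ⟨τ.injective, Good.surjective τ⟩

theorem exists_preimage [Module.Finite L N] {F : N →ₛₗ[τ] N} (hF : Function.Injective F)
    {P : Submodule L N} (hP : ∀ x ∈ P, F x ∈ P) {y : N} (hy : y ∈ P) : ∃ x ∈ P, F x = y := by
  let b := Module.finBasis L P
  have hli : LinearIndependent L (fun i => F (b i : N)) := by
    refine LinearIndependent.map_of_surjective_injective (v := fun i => (b i : N)) ?_ τ F.toAddMonoidHom
      (Good.surjective τ) (fun m hm => hF (hm.trans (map_zero F).symm)) fun r m => map_smulₛₗ F r m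
    exact b.linearIndependent.map' P.subtype (Submodule.ker_subtype P)
  have hle : Submodule.span L (Set.range fun i => F (b i : N)) ≤ P :=
    Submodule.span_le.mpr (by rintro _ ⟨i, rfl⟩; exact hP _ (b i).2)
  have heq : Submodule.span L (Set.range fun i => F (b i : N)) = P :=
    Submodule.eq_of_le_of_finrank_le hle (by rw [finrank_span_eq_card hli, Fintype.card_fin])
  rw [← heq] at hy
  induction hy using Submodule.span_induction with
  | mem z hz => obtain ⟨i, rfl⟩ := hz; exact ⟨_, (b i).2, rfl⟩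
  | zero => exact ⟨0, P.zero_mem, map_zero F⟩
  | add a b _ _ ha hb =>
    obtain ⟨a', ha', rfl⟩ := ha; obtain ⟨b', hb', rfl⟩ := hb
    exact ⟨a' + b', P.add_mem ha' hb', map_add F a' b'⟩
  | smul c a _ ha =>
    obtain ⟨a', ha', rfl⟩ := ha
    obtain ⟨c', rfl⟩ := Good.surjective τ c
    exact ⟨c' • a', P.smul_mem _ ha', map_smulₛₗ F c' a'⟩

theorem exists_preimage_iterate [Module.Finite L N] {F : N →ₛₗ[τ] N} (hF : Function.Injective F)
    {P : Submodule L N} (hP : ∀ x ∈ P, F x ∈ P) (s : ℕ) {y : N} (hy : y ∈ P) :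
    ∃ x ∈ P, (⇑F)^[s] x = y := by
  induction s generalizing y with
  | zero => exact ⟨y, hy, rfl⟩
  | succ s ih =>
    obtain ⟨x, hx, rfl⟩ := exists_preimage hF hP hy
    obtain ⟨z, hz, rfl⟩ := ih hx
    exact ⟨z, hz, Function.iterate_succ_apply' F s z⟩

theorem bijective_restrict [Module.Finite L N] {F : N →ₛₗ[τ] N} (hF : Function.Bijective F)
    {P : Submodule L N} (hP : ∀ x ∈ P, F x ∈ P) : Function.Bijective (F.restrict hP) := by
  refine ⟨fun x y h => Subtype.ext (hF.1 (congrArg Subtype.val h)), fun y => ?_⟩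
  obtain ⟨x, hx, e⟩ := exists_preimage hF.1 hP y.2
  exact ⟨⟨x, hx⟩, Subtype.ext e⟩

theorem isIsoc_restrict {F : N →ₛₗ[τ] N} (hF : Isoc.IsIsoc F) {P : Submodule L N}
    (hP : ∀ x ∈ P, F x ∈ P) : Isoc.IsIsoc (F.restrict hP) := by
  haveI := hF.finite
  exact ⟨inferInstance, bijective_restrict hF.bijective hP⟩

theorem exists_zpow_smul_mem {M : Submodule W N} {x : N} (hx : x ∈ Submodule.span L (M : Set N)) :
    ∃ n : ℕ, (p : L) ^ (n : ℤ) • x ∈ M := by
  induction hx using Submodule.span_induction with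
  | mem y hy => exact ⟨0, by simpa using hy⟩
  | zero => exact ⟨0, by simp⟩
  | add a b _ _ ha hb =>
    obtain ⟨n, hn⟩ := ha; obtain ⟨m, hm⟩ := hb
    refine ⟨n + m, ?_⟩
    rw [Nat.cast_add, smul_add]
    refine M.add_mem ?_ ?_
    · rw [add_comm (n : ℤ), zpow_add₀ pL_ne_zero, mul_smul]; exact zpow_smul_mem (by omega) hn
    · rw [zpow_add₀ pL_ne_zero, mul_smul]; exact zpow_smul_mem (by omega) hm
  | smul c a _ ha =>
    obtain ⟨n, hn⟩ := ha
    rcases eq_or_ne c 0 with rfl | hc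
    · exact ⟨0, by simp⟩
    obtain ⟨e, u, rfl⟩ := exists_isOrdP hc
    refine ⟨n + e.natAbs, ?_⟩
    rw [smul_smul, ← mul_assoc, ← zpow_add₀ pL_ne_zero,
      show ((n + e.natAbs : ℕ) : ℤ) + e = (e.natAbs + e) + n by push_cast; ring, zpow_add₀ pL_ne_zero,
      mul_assoc, mul_comm ((p : L) ^ (n : ℤ)), mul_smul, mul_smul, IsScalarTower.algebraMap_smul]
    exact zpow_smul_mem (by omega) (M.smul_mem _ hn)

/-- an `L`-subspace as a `W`-submodule -/
abbrev latOf (P : Submodule L N) : Submodule W N := P.restrictScalars W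

theorem span_inf_latOf {M : Submodule W N} {Q : Submodule L N} (hQ : Q ≤ Submodule.span L (M : Set N)) :
    Submodule.span L ((M ⊓ latOf Q : Submodule W N) : Set N) = Q := by
  refine le_antisymm (Submodule.span_le.mpr fun x hx => hx.2) fun x hx => ?_
  obtain ⟨n, hn⟩ := exists_zpow_smul_mem (hQ hx)
  have : (p : L) ^ (n : ℤ) • x ∈ Submodule.span L ((M ⊓ latOf Q : Submodule W N) : Set N) :=
    Submodule.subset_span ⟨hn, Q.smul_mem _ hx⟩
  have h2 := Submodule.smul_mem _ (((p : L) ^ (n : ℤ))⁻¹) this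
  rwa [smul_smul, inv_mul_cancel₀ (zpow_ne _), one_smul] at h2

theorem fg_of_le' {M X : Submodule W N} (hM : M.FG) (h : X ≤ M) : X.FG := by
  haveI : Module.Finite W M := Module.Finite.iff_fg.mpr hM
  haveI : IsNoetherian W M := isNoetherian_of_isNoetherianRing_of_finite W M
  have := (IsNoetherian.noetherian (Submodule.comap M.subtype X)).map M.subtype
  rwa [Submodule.map_comap_subtype, inf_eq_right.mpr h] at this

theorem IsoclinicOn.sub [Module.Finite L N] {F : N →ₛₗ[τ] N} (hF : Function.Bijective F) {μ : ℚ}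
    {P Q : Submodule L N} (h : IsoclinicOn F μ P) (hQP : Q ≤ P) (hQ : ∀ x ∈ Q, F x ∈ Q) :
    IsoclinicOn F μ Q := by
  obtain ⟨hP, M, hfg, hspan, r, s, hs, hrs, heq⟩ := h
  refine ⟨hQ, M ⊓ latOf Q, fg_of_le' hfg inf_le_left, span_inf_latOf (hspan.symm ▸ hQP), r, s, hs, hrs, ?_⟩
  refine le_antisymm (latImg_le_iff.mpr ?_) ?_
  · rintro x ⟨hxM, hxQ⟩
    have h1 := mem_pPow.mp (heq.le (iterate_mem_latImg (F := F) (s := s) hxM))
    exact mem_pPow.mpr ⟨h1, Q.smul_mem _ (Set.MapsTo.iterate (fun y hy => hQ y hy) s hxQ)⟩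
  · intro x hx
    obtain ⟨h1, h2⟩ := mem_pPow.mp hx
    obtain ⟨y, hy, rfl⟩ := mem_latImg.mp (heq.ge (mem_pPow.mpr h1))
    have hxQ : (⇑F)^[s] y ∈ Q := by
      have := Q.smul_mem ((p : L) ^ r) h2
      rwa [smul_smul, ← zpow_add₀ pL_ne_zero, add_neg_cancel, zpow_zero, one_smul] at this
    obtain ⟨z, hz, e⟩ := exists_preimage_iterate hF.1 hQ s hxQ
    obtain rfl := hF.1.iterate s e
    exact iterate_mem_latImg ⟨hy, hz⟩

/-! ### change of the exponent -/

theorem latImg_eq_mul {F : N →ₛₗ[τ] N} {M : Submodule W N} {r : ℤ} {s : ℕ}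
    (heq : Isoc.latImg F s M = Isoc.pPow r M) (j : ℕ) :
    Isoc.latImg F (s * j) M = Isoc.pPow ((j : ℤ) * r) M := by
  induction j with
  | zero => rw [mul_zero, latImg_zero, Nat.cast_zero, zero_mul, pPow_zero]
  | succ j ih =>
    rw [mul_add, mul_one, latImg_add, heq, latImg_pPow, ih, pPow_pPow, Nat.cast_succ]
    congr 1
    ring

theorem cross_eq {r₁ r₂ : ℤ} {s₁ s₂ : ℕ} (h₁ : 0 < s₁) (h₂ : 0 < s₂)
    (h : (r₁ : ℚ) / s₁ = (r₂ : ℚ) / s₂) : r₁ * s₂ = r₂ * s₁ := by
  rw [div_eq_div_iff (by exact_mod_cast h₁.ne') (by exact_mod_cast h₂.ne')] at h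
  exact_mod_cast h

theorem IsoclinicOn.bot (F : N →ₛₗ[τ] N) (μ : ℚ) : IsoclinicOn F μ ⊥ := by
  refine ⟨fun x hx => by rw [Submodule.mem_bot] at hx ⊢; rw [hx, map_zero], ⊥, Submodule.fg_bot, by simp, μ.num,
    μ.den, μ.pos, μ.num_div_den, ?_⟩
  refine le_antisymm (latImg_le_iff.mpr fun x hx => ?_) fun x hx => ?_
  · rw [Submodule.mem_bot] at hx
    rw [hx, ← Isoc.iter_apply, map_zero]
    exact Submodule.zero_mem _
  · have := mem_pPow.mp hx
    rw [Submodule.mem_bot, smul_eq_zero] at this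
    rw [this.resolve_left (zpow_ne _)]
    exact Submodule.zero_mem _

theorem IsoclinicOn.sup {F : N →ₛₗ[τ] N} {μ : ℚ} {P Q : Submodule L N} (h : IsoclinicOn F μ P)
    (h' : IsoclinicOn F μ Q) : IsoclinicOn F μ (P ⊔ Q) := by
  obtain ⟨hP, M, hfg, hspan, r, s, hs, hrs, heq⟩ := h
  obtain ⟨hQ, M', hfg', hspan', r', s', hs', hrs', heq'⟩ := h'
  refine ⟨fun x hx => ?_, M ⊔ M', hfg.sup hfg', ?_, (s' : ℤ) * r, s * s', Nat.mul_pos hs hs', ?_, ?_⟩
  · obtain ⟨a, ha, b, hb, rfl⟩ := Submodule.mem_sup.mp hx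
    rw [map_add]
    exact Submodule.add_mem_sup (hP a ha) (hQ b hb)
  · refine le_antisymm (Submodule.span_le.mpr fun x hx => ?_) (sup_le ?_ ?_)
    · obtain ⟨a, ha, b, hb, rfl⟩ := Submodule.mem_sup.mp hx
      exact Submodule.add_mem_sup (hspan ▸ Submodule.subset_span ha) (hspan' ▸ Submodule.subset_span hb)
    · exact hspan.symm.trans_le (Submodule.span_mono (le_sup_left : M ≤ M ⊔ M'))
    · exact hspan'.symm.trans_le (Submodule.span_mono (le_sup_right : M' ≤ M ⊔ M'))
  · rw [← hrs]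
    push_cast
    field_simp
  · have h1 := latImg_eq_mul heq s'
    have h2 := latImg_eq_mul heq' s
    rw [mul_comm s' s, show (s : ℤ) * r' = s' * r by
      have := cross_eq hs hs' (hrs.trans hrs'.symm); linarith] at h2
    rw [latImg_sup, pPow_sup, h1, h2]

/-! ### two slopes -/

theorem subsingleton_of_two_slopes [Module.Finite L N] {F : N →ₛₗ[τ] N} (hF : Function.Bijective F)
    {μ₁ μ₂ : ℚ} (h₁ : Isoc.IsIsoclinic F μ₁) (h₂ : Isoc.IsIsoclinic F μ₂) (hne : μ₁ ≠ μ₂) :
    Subsingleton N := by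
  rw [← not_nontrivial_iff_subsingleton]
  intro hN
  obtain ⟨M₁, hM₁, r₁, s₁, hs₁, e₁, heq₁⟩ := h₁
  obtain ⟨M₂, hM₂, r₂, s₂, hs₂, e₂, heq₂⟩ := h₂
  obtain ⟨o₁, ho₁, hl₁, -⟩ := IsFirstSlope.exists_seq hF (isFirstSlope_of_latImg_eq hF hM₁ hs₁ heq₁) hM₁
  obtain ⟨o₂, ho₂, hl₂, -⟩ := IsFirstSlope.exists_seq hF (isFirstSlope_of_latImg_eq hF hM₂ hs₂ heq₂) hM₂
  have h := tendsto_nhds_unique (tendsto_of_lattice hM₁ hM₂ (fun n _ => ho₁ n) (fun n _ => ho₂ n) hl₁) hl₂
  apply hne
  rw [← e₁, ← e₂]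
  exact Rat.cast_injective (α := ℝ) (by push_cast; exact h)

theorem IsoclinicOn.eq_bot [Module.Finite L N] {F : N →ₛₗ[τ] N} (hF : Function.Bijective F) {μ₁ μ₂ : ℚ}
    {P : Submodule L N} (h₁ : IsoclinicOn F μ₁ P) (h₂ : IsoclinicOn F μ₂ P) (hne : μ₁ ≠ μ₂) : P = ⊥ := by
  have := subsingleton_of_two_slopes (bijective_restrict hF h₁.1) ((isIsoclinic_restrict_iff h₁.1).mpr h₁)
    ((isIsoclinic_restrict_iff h₁.1).mpr h₂) hne
  exact Submodule.eq_bot_of_subsingleton

theorem eq_zero_of_morphism [Module.Finite L N] [Module.Finite L N'] {F : N →ₛₗ[τ] N} {F' : N' →ₛₗ[τ] N'}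
    (hF' : Function.Bijective F') {μ₁ μ₂ : ℚ} (h₁ : Isoc.IsIsoclinic F μ₁) (h₂ : Isoc.IsIsoclinic F' μ₂)
    (hne : μ₁ ≠ μ₂) (f : N →ₗ[L] N') (hf : ∀ x, f (F x) = F' (f x)) : f = 0 := by
  have h := (isoclinicOn_top_iff.mpr h₁).map f hf
  have h' : IsoclinicOn F' μ₂ ((⊤ : Submodule L N).map f) :=
    (isoclinicOn_top_iff.mpr h₂).sub hF' le_top h.1
  have := h.eq_bot hF' h' hne
  rwa [Submodule.map_top, LinearMap.range_eq_bot] at this

/-! ### the slope part -/

theorem slopePart_eq (F : N →ₛₗ[τ] N) (μ : ℚ) :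
    Isoc.slopePart F μ = sSup {P : Submodule L N | IsoclinicOn F μ P} := by
  refine congrArg sSup (Set.ext fun P => ?_)
  exact ⟨fun ⟨hP, h⟩ => (isIsoclinic_restrict_iff hP).mp h, fun h => ⟨h.1, (isIsoclinic_restrict_iff h.1).mpr h⟩⟩

theorem IsoclinicOn.le_slopePart {F : N →ₛₗ[τ] N} {μ : ℚ} {P : Submodule L N} (h : IsoclinicOn F μ P) :
    P ≤ Isoc.slopePart F μ := slopePart_eq F μ ▸ le_sSup h

theorem isoclinicOn_slopePart [Module.Finite L N] (F : N →ₛₗ[τ] N) (μ : ℚ) :
    IsoclinicOn F μ (Isoc.slopePart F μ) := by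
  obtain ⟨m, hm, hmax⟩ := set_has_maximal_iff_noetherian.mpr (inferInstanceAs (IsNoetherian L N))
    {P : Submodule L N | IsoclinicOn F μ P} ⟨⊥, IsoclinicOn.bot F μ⟩
  have : Isoc.slopePart F μ = m := by
    refine le_antisymm ?_ hm.le_slopePart
    rw [slopePart_eq]
    refine sSup_le fun P hP => ?_
    by_contra hle
    exact hmax _ (hm.sup hP) (lt_of_le_of_ne le_sup_left fun e => hle (e.symm ▸ le_sup_right))
  rw [this]
  exact hm

/-! ### the standard isocrystals -/

theorem iterate_stdIsoc (τ : L →+* L) (d : ℤ) (h : ℕ) (j : ℕ) (hj : j ≤ h) (x : Fin h → L) (i : Fin h) :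
    (⇑(Isoc.stdIsoc τ d h))^[j] x i =
      (if i.val < j then (p : L) ^ d else 1) * (⇑τ)^[j] (x ⟨(i.val + h - j) % h, Nat.mod_lt _ i.pos⟩) := by
  induction j generalizing i with
  | zero =>
    simp only [Function.iterate_zero, id_eq, Nat.not_lt_zero, if_false, one_mul, Nat.sub_zero,
      Nat.add_mod_right, Nat.mod_eq_of_lt i.2]
  | succ j ih =>
    obtain ⟨h', rfl⟩ : ∃ h', h = h' + 1 := ⟨h - 1, by omega⟩
    have hsymm : (((finRotate (h' + 1)).symm i : Fin (h' + 1)) : ℕ) = if i.val = 0 then h' else i.val - 1 := by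
      have e := congrArg Fin.val ((finRotate (h' + 1)).apply_symm_apply i)
      rw [coe_finRotate] at e
      split_ifs at e with h1
      · rw [if_pos e.symm, h1, Fin.val_last]
      · rw [if_neg (by omega)]; omega
    rw [Function.iterate_succ_apply', Isoc.stdIsoc_apply, ih (by omega), map_mul,
      Function.iterate_succ_apply', apply_ite τ, map_zpow_p, map_one, ← mul_assoc]
    congr 1
    · rw [hsymm]
      rcases Nat.eq_zero_or_pos i.val with a | a
      · rw [if_pos a, if_pos a, if_neg (by omega), mul_one, if_pos (by omega)]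
      · simp only [if_neg (show i.val ≠ 0 by omega), one_mul]
        exact if_congr (by omega) rfl rfl
    · congr 3
      refine Fin.ext ?_
      simp only [hsymm]
      split_ifs with a
      · rw [a, show h' + (h' + 1) - j = (h' - j) + (h' + 1) by omega, Nat.add_mod_right]
        congr 1; omega
      · congr 1; omega

theorem latImg_stdIsoc (d : ℤ) (h : ℕ) :
    Isoc.latImg (Isoc.stdIsoc τ d h) h (Submodule.span W (Set.range (Pi.basisFun L (Fin h)))) =
      Isoc.pPow d (Submodule.span W (Set.range (Pi.basisFun L (Fin h)))) := by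
  have hit : ∀ x i, (⇑(Isoc.stdIsoc τ d h))^[h] x i = (p : L) ^ d * (⇑τ)^[h] (x i) := fun x i => by
    rw [iterate_stdIsoc τ d h h le_rfl, if_pos i.2]
    congr 3
    exact Fin.ext (by rw [Fin.val_mk, Nat.add_sub_cancel, Nat.mod_eq_of_lt i.2])
  have hmem : ∀ x : Fin h → L, x ∈ Submodule.span W (Set.range (Pi.basisFun L (Fin h))) ↔
      ∀ i, ∃ w : W, ι w = x i := fun x => by
    rw [Module.Basis.mem_span_iff_repr_mem]
    simp
  ext x
  rw [mem_latImg, mem_pPow, hmem]
  constructor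
  · rintro ⟨y, hy, rfl⟩ i
    obtain ⟨w, hw⟩ := (hmem y).mp hy i
    obtain ⟨w', hw'⟩ := Good.map_int (τ := τ ^ h) w
    refine ⟨w', ?_⟩
    rw [Pi.smul_apply, hit, smul_eq_mul, ← mul_assoc, ← zpow_add₀ pL_ne_zero, neg_add_cancel, zpow_zero,
      one_mul, ← hw', ← hw, RingHom.coe_pow]
  · intro hx
    choose w hw using hx
    choose w' hw' using fun i => Good.surj_int (τ := τ ^ h) (w i)
    refine ⟨fun i => ι (w' i), (hmem _).mpr fun i => ⟨_, rfl⟩, funext fun i => ?_⟩
    rw [hit, ← RingHom.coe_pow, hw', hw, Pi.smul_apply, smul_eq_mul, ← mul_assoc, ← zpow_add₀ pL_ne_zero,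
      add_neg_cancel, zpow_zero, one_mul]

theorem stdIsoc_bijective (τ : L →+* L) [Good τ] (d : ℤ) (h : ℕ) :
    Function.Bijective (Isoc.stdIsoc τ d h) := by
  refine ⟨fun x y e => funext fun i => τ.injective ?_, fun y => ?_⟩
  · have := congrFun e (finRotate h i)
    rw [Isoc.stdIsoc_apply, Isoc.stdIsoc_apply, Equiv.symm_apply_apply] at this
    refine mul_left_cancel₀ ?_ this
    split_ifs
    · exact zpow_ne d
    · exact one_ne_zero
  · choose x hx using fun i : Fin h =>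
      Good.surjective τ ((if (finRotate h i).val = 0 then (p : L) ^ d else 1)⁻¹ * y (finRotate h i))
    refine ⟨x, funext fun i => ?_⟩
    rw [Isoc.stdIsoc_apply, hx, Equiv.apply_symm_apply, ← mul_assoc, mul_inv_cancel₀, one_mul]
    split_ifs
    · exact zpow_ne d
    · exact one_ne_zero

theorem isoclinicOn_std (d : ℤ) {h : ℕ} (hh : 0 < h) :
    IsoclinicOn (Isoc.stdIsoc τ d h) ((d : ℚ) / h) ⊤ :=
  ⟨fun _ _ => trivial, _, Submodule.fg_span (Set.finite_range _),
    (isLattice_span_range (Pi.basisFun L (Fin h))).span_eq_top, d, h, hh, rfl, latImg_stdIsoc d h⟩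

theorem stdIsoc_simple (d : ℤ) {h : ℕ} (hh : 0 < h) (hdh : Int.gcd d h = 1)
    (P : Submodule L (Fin h → L)) (hP : ∀ x ∈ P, Isoc.stdIsoc τ d h x ∈ P) : P = ⊥ ∨ P = ⊤ := by
  have hb := stdIsoc_bijective τ d h
  have h1 := (isoclinicOn_std (τ := τ) d hh).sub hb le_top hP
  rcases eq_or_ne P ⊥ with h0 | h0
  · exact Or.inl h0
  refine Or.inr (Submodule.eq_top_of_finrank_eq ?_)
  rw [Module.finrank_fin_fun]
  haveI : Nontrivial P := (Submodule.nontrivial_iff_ne_bot).mpr h0
  obtain ⟨M', hM', r, s, hs, hrs, heq⟩ := (isIsoclinic_restrict_iff hP).mpr h1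
  obtain ⟨e, he⟩ := exists_isOrdP (detFun_ne_zero (Module.finBasis L P) (bijective_restrict hb hP))
  have hre := mul_rank_eq (bijective_restrict hb hP) (Module.finBasis L P) he hM' heq
  have hc := cross_eq hs hh hrs
  have hdvd : (h : ℤ) ∣ (Module.finrank L P : ℤ) := by
    refine Int.dvd_of_dvd_mul_right_of_gcd_one (b := d) ?_ (by rw [Int.gcd_comm]; exact hdh)
    refine ⟨e, mul_left_cancel₀ (show (s : ℤ) ≠ 0 by exact_mod_cast hs.ne') ?_⟩
    calc (s : ℤ) * (d * Module.finrank L P) = (r * Module.finrank L P) * h := by rw [← mul_assoc, mul_comm (s : ℤ), ← hc]; ring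
      _ = (s : ℤ) * ((h : ℤ) * e) := by rw [hre]; ring
  have hle : Module.finrank L P ≤ h := by
    simpa using Submodule.finrank_le P
  exact le_antisymm hle (Nat.le_of_dvd Module.finrank_pos (by exact_mod_cast hdvd))

end Groth.Agent.IsocLib
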