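import Groth.Agent.IsocLib.Decomp
import Groth.Agent.CAlg.Semilinear
import Mathlib.RingTheory.WittVector.DiscreteValuationRing
import Mathlib.LinearAlgebra.Matrix.NonsingularInverse
import Mathlib.LinearAlgebra.Dimension.Constructions
import Mathlib.Order.ModularLattice

/-!
# Isocrystals over an algebraically closed field: Lang's theorem and the classification
-/

set_option autoImplicit false
set_option linter.style.haveILetI false

universe u v

noncomputable section

namespace Groth.Agent.IsocLib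

variable {p : ℕ} [Fact p.Prime] {k : Type u} [Field k] [CharP k p] [PerfectRing k p]

local notation "W" => WittVector p k
local notation "L" => FractionRing (WittVector p k)
local notation "ι" => algebraMap (WittVector p k) (FractionRing (WittVector p k))

/-- the `ν`-th power of the Frobenius of the Witt vectors -/
def frobW (ν : ℕ) : W →+* W := ((WittVector.frobeniusEquiv p k ^ (ν : ℤ)) : W ≃+* W).toRingHom

theorem frobW_coeff (ν : ℕ) (w : W) (n : ℕ) : (frobW ν w).coeff n = w.coeff n ^ p ^ ν := by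
  induction ν with
  | zero => simp [frobW]
  | succ j ih =>
    have e : frobW (p := p) (k := k) (j + 1) w = WittVector.frobenius (frobW j w) := by
      simp only [frobW, Nat.cast_succ, add_comm (j : ℤ) 1, zpow_add, zpow_one]
      rfl
    rw [e, WittVector.coeff_frobenius_charP, ih, ← pow_mul, pow_succ]

theorem constantCoeff_frobW (ν : ℕ) (w : W) :
    WittVector.constantCoeff (frobW ν w) = WittVector.constantCoeff w ^ p ^ ν := frobW_coeff ν w 0

theorem dvd_iff_constantCoeff (w : W) : (p : W) ∣ w ↔ WittVector.constantCoeff w = 0 := by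
  rw [← Ideal.mem_span_singleton]
  exact WittVector.mem_span_p_iff_coeff_zero_eq_zero w

theorem eq_zero_of_forall_dvd {w : W} (h : ∀ j : ℕ, (p : W) ^ j ∣ w) : w = 0 := by
  refine IsHausdorff.haus (I := Ideal.span {(p : W)}) inferInstance w fun j => ?_
  rw [SModEq.zero, smul_eq_mul, Ideal.mul_top, Ideal.span_singleton_pow, Ideal.mem_span_singleton]
  exact h j

theorem exists_limit_scalar (f : ℕ → W) (hf : ∀ j, (p : W) ^ j ∣ f (j + 1) - f j) :
    ∃ l : W, ∀ j, (p : W) ^ j ∣ l - f j := by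
  have hdvd : ∀ {m n : ℕ}, m ≤ n → (p : W) ^ m ∣ f n - f m := by
    intro m n h
    induction n, h using Nat.le_induction with
    | base => simp
    | succ n hmn ih =>
      rw [show f (n + 1) - f m = (f (n + 1) - f n) + (f n - f m) by ring]
      exact dvd_add ((pow_dvd_pow _ hmn).trans (hf n)) ih
  obtain ⟨l, hl⟩ := IsPrecomplete.prec (I := Ideal.span {(p : W)}) inferInstance (f := f)
    (fun {m n} h => by
      rw [SModEq.sub_mem, smul_eq_mul, Ideal.mul_top, Ideal.span_singleton_pow, Ideal.mem_span_singleton,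
        ← neg_sub, dvd_neg]
      exact hdvd h)
  refine ⟨l, fun j => ?_⟩
  have := hl j
  rw [SModEq.sub_mem, smul_eq_mul, Ideal.mul_top, Ideal.span_singleton_pow, Ideal.mem_span_singleton] at this
  rwa [← neg_sub, dvd_neg]

theorem frobW_p (ν : ℕ) (j : ℕ) : frobW (p := p) (k := k) ν ((p : W) ^ j) = (p : W) ^ j := by
  rw [map_pow, map_natCast]

open Matrix in
theorem lang_one_mod_p [IsAlgClosed k] {n : ℕ} {ν : ℕ} (hν : 1 ≤ ν) (A : Matrix (Fin n) (Fin n) W)
    (hA : A.map WittVector.constantCoeff = 1) :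
    ∃ Q : Matrix (Fin n) (Fin n) W, IsUnit Q.det ∧ A * Q.map (frobW ν) = Q := by
  classical
  have hq1 : 1 < p ^ ν := Nat.one_lt_pow (by omega) (Nat.Prime.one_lt Fact.out)
  let D : Matrix (Fin n) (Fin n) W → Matrix (Fin n) (Fin n) W := fun Q => A * Q.map (frobW ν) - Q
  have hroot : ∀ e : k, ∃ y : k, y ^ p ^ ν - y + e = 0 := by
    intro e
    open Polynomial in
    obtain ⟨x, hx⟩ := IsAlgClosed.exists_root (X ^ p ^ ν - X + Polynomial.C e) (by
      rw [sub_add, degree_sub_eq_left_of_degree_lt]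
      · rw [degree_X_pow]; exact_mod_cast (by omega : p ^ ν ≠ 0)
      · rw [degree_X_sub_C, degree_X_pow]; exact_mod_cast hq1)
    exact ⟨x, by simpa [Polynomial.IsRoot] using hx⟩
  choose y hy using hroot
  have hD : ∀ (j : ℕ) (Q E : Matrix (Fin n) (Fin n) W), D Q = (p : W) ^ (j + 1) • E →
      ∃ Y E' : Matrix (Fin n) (Fin n) W, D (Q + (p : W) ^ (j + 1) • Y) = (p : W) ^ (j + 2) • E' := by
    intro j Q E hE
    let Y : Matrix (Fin n) (Fin n) W :=
      Matrix.of fun a b => WittVector.teichmuller p (y (WittVector.constantCoeff (E a b)))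
    have h0 : ∀ a b, (p : W) ∣ (E + (A * Y.map (frobW ν) - Y)) a b := by
      intro a b
      rw [dvd_iff_constantCoeff]
      have h1 : (E + (A * Y.map (frobW ν) - Y)).map WittVector.constantCoeff =
          E.map WittVector.constantCoeff + ((Y.map (frobW ν)).map WittVector.constantCoeff -
            Y.map WittVector.constantCoeff) := by
        rw [Matrix.map_add _ (map_add _), Matrix.map_sub _ (map_sub _), Matrix.map_mul, hA, Matrix.one_mul]
      have h2 := congrFun (congrFun h1 a) b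
      simp only [Matrix.map_apply, Matrix.add_apply, Matrix.sub_apply] at h2 ⊢
      rw [h2, constantCoeff_frobW]
      simp only [Y, Matrix.of_apply]
      rw [show WittVector.constantCoeff (WittVector.teichmuller p (y (WittVector.constantCoeff (E a b)))) =
        y (WittVector.constantCoeff (E a b)) from WittVector.teichmuller_coeff_zero p _]
      linear_combination hy (WittVector.constantCoeff (E a b))
    choose E' hE' using h0
    refine ⟨Y, Matrix.of E', ?_⟩
    have h3 : D (Q + (p : W) ^ (j + 1) • Y) = (p : W) ^ (j + 1) • (E + (A * Y.map (frobW ν) - Y)) := by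
      have hmap : (Q + (p : W) ^ (j + 1) • Y).map (frobW ν) = Q.map (frobW ν) + (p : W) ^ (j + 1) • Y.map (frobW ν) := by
        refine Matrix.ext fun a b => ?_
        simp only [Matrix.map_apply, Matrix.add_apply, Matrix.smul_apply, smul_eq_mul, map_add, map_mul, frobW_p]
      simp only [D] at hE ⊢
      rw [hmap, Matrix.mul_add, Matrix.mul_smul, smul_add, smul_sub, ← hE]
      abel
    rw [h3]
    refine Matrix.ext fun a b => ?_
    simp only [Matrix.smul_apply, smul_eq_mul, hE' a b, Matrix.of_apply]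
    ring
  have h0 : ∃ E, D 1 = (p : W) ^ 1 • E := by
    have h1 : ∀ a b, (p : W) ∣ D 1 a b := by
      intro a b
      rw [dvd_iff_constantCoeff]
      have h1 : (D 1).map WittVector.constantCoeff = 0 := by
        simp only [D]
        rw [Matrix.map_one _ (map_zero _) (map_one _), Matrix.mul_one, Matrix.map_sub _ (map_sub _), hA,
          Matrix.map_one _ (map_zero _) (map_one _), sub_self]
      exact congrFun (congrFun h1 a) b
    choose E hE using h1
    exact ⟨Matrix.of E, Matrix.ext fun a b => by simp [hE a b]⟩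
  choose Y E' hY using hD
  let seq : (j : ℕ) → {Q : Matrix (Fin n) (Fin n) W // ∃ E, D Q = (p : W) ^ (j + 1) • E} := fun j =>
    Nat.rec (motive := fun j => {Q : Matrix (Fin n) (Fin n) W // ∃ E, D Q = (p : W) ^ (j + 1) • E})
      ⟨1, by simpa using h0⟩
      (fun j Q => ⟨Q.1 + (p : W) ^ (j + 1) • Y j Q.1 Q.2.choose Q.2.choose_spec, _, hY j Q.1 _ Q.2.choose_spec⟩) j
  have hseq : ∀ j a b, (p : W) ^ (j + 1) ∣ (seq (j + 1)).1 a b - (seq j).1 a b := by
    intro j a b
    show (p : W) ^ (j + 1) ∣ ((seq j).1 + (p : W) ^ (j + 1) • _) a b - _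
    rw [Matrix.add_apply, Matrix.smul_apply, add_sub_cancel_left, smul_eq_mul]
    exact dvd_mul_right _ _
  choose l hl using fun a b => exists_limit_scalar (fun j => (seq j).1 a b)
    (fun j => (pow_dvd_pow _ (Nat.le_succ j)).trans (hseq j a b))
  refine ⟨Matrix.of l, ?_, ?_⟩
  · refine WittVector.isUnit_of_coeff_zero_ne_zero _ ?_
    show WittVector.constantCoeff (Matrix.of l).det ≠ 0
    rw [RingHom.map_det, show WittVector.constantCoeff.mapMatrix (Matrix.of l) = 1 from ?_, Matrix.det_one]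
    · exact one_ne_zero
    refine Matrix.ext fun a b => ?_
    have h1 := (dvd_iff_constantCoeff _).mp (by simpa using hl a b 1)
    have h2 := (dvd_iff_constantCoeff _).mp (by simpa using hseq 0 a b)
    rw [map_sub, sub_eq_zero] at h1 h2
    rw [RingHom.mapMatrix_apply, Matrix.map_apply, Matrix.of_apply, h1, h2]
    show WittVector.constantCoeff ((1 : Matrix (Fin n) (Fin n) W) a b) = _
    rw [Matrix.one_apply, Matrix.one_apply]
    split_ifs <;> simp
  · refine Matrix.ext fun a b => ?_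
    rw [← sub_eq_zero]
    refine eq_zero_of_forall_dvd (p := p) (k := k) fun j => ?_
    obtain ⟨E, hE⟩ := (seq j).2
    have h1 : (A * (Matrix.of l).map (frobW ν)) a b - (Matrix.of l) a b =
        D (seq j).1 a b + ((∑ c, A a c * frobW ν (l c b - (seq j).1 c b)) - (l a b - (seq j).1 a b)) := by
      simp only [D, Matrix.sub_apply, Matrix.mul_apply, Matrix.map_apply, Matrix.of_apply, map_sub, mul_sub,
        Finset.sum_sub_distrib]
      ring
    rw [h1, hE, Matrix.smul_apply, smul_eq_mul]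
    refine dvd_add ((pow_dvd_pow _ (Nat.le_succ j)).trans (dvd_mul_right _ _))
      (dvd_sub (Finset.dvd_sum fun c _ => Dvd.dvd.mul_left ?_ _) (hl a b j))
    have := map_dvd (frobW (p := p) (k := k) ν) (hl c b j)
    rwa [frobW_p] at this

open Matrix in
theorem lang [IsAlgClosed k] {n : ℕ} {ν : ℕ} (hν : 1 ≤ ν) (A : Matrix (Fin n) (Fin n) W) (hA : IsUnit A.det) :
    ∃ P : Matrix (Fin n) (Fin n) W, IsUnit P.det ∧ A * P.map (frobW ν) = P := by
  classical
  let A₀ : Matrix (Fin n) (Fin n) k := A.map WittVector.constantCoeff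
  have hA₀ : IsUnit A₀.det := by
    have := hA.map (WittVector.constantCoeff (p := p) (R := k))
    rwa [RingHom.map_det, RingHom.mapMatrix_apply] at this
  have hq : p ^ ν ≠ 0 := pow_ne_zero _ (Nat.Prime.ne_zero Fact.out)
  let φ : (Fin n → k) →+ (Fin n → k) :=
    { toFun := fun v => A₀ *ᵥ fun i => v i ^ p ^ ν
      map_zero' := by
        have : (fun i => (0 : Fin n → k) i ^ p ^ ν) = 0 := funext fun i => by simp [zero_pow hq]
        rw [this, Matrix.mulVec_zero]
      map_add' := fun v w => by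
        rw [← Matrix.mulVec_add]
        congr 1
        funext i
        simp [add_pow_char_pow] }
  have hφapply : ∀ v, φ v = A₀ *ᵥ fun i => v i ^ p ^ ν := fun v => rfl
  have hφ : ∀ (a : k) v, φ (a • v) = a ^ p ^ ν • φ v := fun a v => by
    rw [hφapply, hφapply, ← Matrix.mulVec_smul]
    congr 1
    funext i
    simp [mul_pow]
  have hbij : Function.Bijective φ := by
    refine ⟨(injective_iff_map_eq_zero φ).mpr fun v hv => funext fun i => ?_, fun w => ?_⟩
    · rw [hφapply] at hv
      have := congrArg (A₀⁻¹ *ᵥ ·) hv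
      simp only [Matrix.mulVec_mulVec, Matrix.nonsing_inv_mul _ hA₀, Matrix.one_mulVec, Matrix.mulVec_zero] at this
      exact eq_zero_of_pow_eq_zero (congrFun this i)
    · choose v hv using fun i => IsAlgClosed.exists_pow_nat_eq ((A₀⁻¹ *ᵥ w) i) (Nat.pos_of_ne_zero hq)
      refine ⟨v, ?_⟩
      rw [hφapply, show (fun i => v i ^ p ^ ν) = A₀⁻¹ *ᵥ w from funext hv, Matrix.mulVec_mulVec,
        Matrix.mul_nonsing_inv _ hA₀, Matrix.one_mulVec]
  obtain ⟨κ, b, hb⟩ := CAlg.Semilinear.exists_fixed_basis hν φ hφ hbij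
  let b' := b.reindex (b.indexEquiv (Pi.basisFun k (Fin n)))
  have hb' : ∀ i, φ (b' i) = b' i := fun i => by rw [Module.Basis.reindex_apply]; exact hb _
  let P₁ : Matrix (Fin n) (Fin n) W := Matrix.of fun i j => WittVector.teichmuller p (b' j i)
  have hP₁c : P₁.map WittVector.constantCoeff = (Pi.basisFun k (Fin n)).toMatrix b' := by
    ext i j
    simp only [P₁, Matrix.map_apply, Matrix.of_apply, Module.Basis.toMatrix_apply, Pi.basisFun_repr]
    exact WittVector.teichmuller_coeff_zero p _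
  have hP₁ : IsUnit P₁.det := by
    refine WittVector.isUnit_of_coeff_zero_ne_zero _ ?_
    show WittVector.constantCoeff P₁.det ≠ 0
    rw [RingHom.map_det, RingHom.mapMatrix_apply, hP₁c]
    intro h0
    have := congrArg Matrix.det ((Pi.basisFun k (Fin n)).toMatrix_mul_toMatrix_flip b')
    rw [Matrix.det_mul, h0, zero_mul, Matrix.det_one] at this
    exact zero_ne_one this
  let A' := P₁⁻¹ * (A * P₁.map (frobW ν))
  have hA' : A'.map WittVector.constantCoeff = 1 := by
    have h1 : (A * P₁.map (frobW ν)).map WittVector.constantCoeff = P₁.map WittVector.constantCoeff := by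
      ext i j
      have h := congrFun (hb' j) i
      rw [hφapply] at h
      rw [Matrix.map_mul]
      simp only [Matrix.mul_apply, Matrix.map_apply, constantCoeff_frobW, P₁, Matrix.of_apply]
      simp only [show ∀ x : k, WittVector.constantCoeff (WittVector.teichmuller p x) = x from
        WittVector.teichmuller_coeff_zero p]
      exact h
    show (P₁⁻¹ * (A * P₁.map (frobW ν))).map WittVector.constantCoeff = 1
    rw [Matrix.map_mul, h1, ← Matrix.map_mul, Matrix.nonsing_inv_mul _ hP₁,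
      Matrix.map_one _ (map_zero _) (map_one _)]
  obtain ⟨Q, hQ, hAQ⟩ := lang_one_mod_p hν A' hA'
  refine ⟨P₁ * Q, by rw [Matrix.det_mul]; exact hP₁.mul hQ, ?_⟩
  conv_rhs => rw [← hAQ]
  simp only [A', Matrix.map_mul, ← Matrix.mul_assoc, Matrix.mul_nonsing_inv _ hP₁, Matrix.one_mul]

variable {N : Type v} [AddCommGroup N] [Module (WittVector p k) N]
  [Module (FractionRing (WittVector p k)) N]
  [IsScalarTower (WittVector p k) (FractionRing (WittVector p k)) N]
  {τ : FractionRing (WittVector p k) →+* FractionRing (WittVector p k)}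

theorem span_fixed_eq_top_of_pos [IsAlgClosed k] [Module.Finite L N] [Good τ] {ν : ℕ} (hν : 1 ≤ ν)
    (hτ : ∀ w, τ (ι w) = ι (frobW ν w)) {G : N →ₛₗ[τ] N} (hG : Function.Bijective G) {M : Submodule W N}
    (hM : M.IsLattice L) (hGM : Isoc.latImg G 1 M = M) : Submodule.span L {v | G v = v} = ⊤ := by
  classical
  obtain ⟨b, rfl⟩ := exists_basis hM
  choose A hA using fun i j => (mem_span_range_iff b _).mp
    (hGM.le (iterate_mem_latImg (F := G) (s := 1) (Submodule.subset_span ⟨j, rfl⟩))) i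
  simp only [Function.iterate_one] at hA
  have hdet : ι (Matrix.det (Matrix.of A)) = detFun b G := by
    rw [RingHom.map_det, detFun]
    congr 1
    ext i j
    simp [hA]
  obtain ⟨P, hP, hAP⟩ := lang hν (Matrix.of A)
    (isUnit_of_isOrdP_zero (hdet.symm ▸ isOrdP_zero_of_latImg_eq b hG hGM))
  let v : Fin (Module.finrank L N) → N := fun i => ∑ j, ι (P j i) • b j
  have hGb : ∀ j, G (b j) = ∑ l, ι (A l j) • b l := fun j => by
    simp only [hA]
    exact (b.sum_repr _).symm
  have hfix : ∀ i, G (v i) = v i := by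
    intro i
    simp only [v, map_sum, map_smulₛₗ, hτ, hGb, Finset.smul_sum, smul_smul, ← map_mul]
    rw [Finset.sum_comm]
    refine Finset.sum_congr rfl fun l _ => ?_
    rw [← Finset.sum_smul, ← map_sum]
    congr 2
    conv_rhs => rw [← hAP]
    simp [Matrix.mul_apply, mul_comm]
  rw [eq_top_iff, ← b.span_eq, Submodule.span_le]
  rintro _ ⟨j, rfl⟩
  have hj : b j = ∑ i, ι (P⁻¹ i j) • v i := by
    simp only [v, Finset.smul_sum, smul_smul, ← map_mul]
    rw [Finset.sum_comm]
    simp only [← Finset.sum_smul, ← map_sum]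
    have : ∀ l, ∑ i, P⁻¹ i j * P l i = (1 : Matrix _ _ W) l j := fun l => by
      rw [← Matrix.mul_nonsing_inv _ hP]
      simp [Matrix.mul_apply, mul_comm]
    simp [this, Matrix.one_apply, apply_ite ι]
  rw [hj]
  exact Submodule.sum_mem _ fun i _ => Submodule.smul_mem _ _ (Submodule.subset_span (hfix i))

theorem span_fixed_eq_top [IsAlgClosed k] [Module.Finite L N] [Good τ] {c : ℤ} (hc : c ≠ 0)
    (hτ : ∀ w, τ (ι w) = ι ((WittVector.frobeniusEquiv p k ^ c) w)) {G : N →ₛₗ[τ] N} (hG : Function.Bijective G)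
    {M : Submodule W N} (hM : M.IsLattice L) (hGM : Isoc.latImg G 1 M = M) :
    Submodule.span L {v | G v = v} = ⊤ := by
  rcases lt_or_gt_of_ne hc with hneg | hpos
  · let σ' := Isoc.frob p k (-c)
    have hinv : ∀ x, τ (σ' x) = x := by
      intro x
      obtain ⟨y, z, -, rfl⟩ := IsFractionRing.div_surjective (A := W) x
      rw [map_div₀, map_div₀, Isoc.frob_algebraMap, Isoc.frob_algebraMap, hτ, hτ]
      simp [zpow_neg]
    let g := (Equiv.ofBijective G hG).symm
    have hg : ∀ x, G (g x) = x := (Equiv.ofBijective G hG).apply_symm_apply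
    let G' : N →ₛₗ[σ'] N :=
      { toFun := g
        map_add' := fun x y => hG.1 (by rw [hg, map_add, hg, hg])
        map_smul' := fun a x => hG.1 (by rw [hg, map_smulₛₗ, hg, hinv]) }
    have hG' : Function.Bijective G' := (Equiv.ofBijective G hG).symm.bijective
    have hgG : ∀ x, g (G x) = x := (Equiv.ofBijective G hG).symm_apply_apply
    have hG'M : Isoc.latImg G' 1 M = M := by
      refine le_antisymm (latImg_le_iff.mpr fun x hx => ?_) fun x hx => ?_
      · obtain ⟨y, hy, e⟩ := mem_latImg.mp (hGM.ge hx)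
        rw [Function.iterate_one] at e ⊢
        rw [← e]
        exact (hgG y).symm ▸ hy
      · refine mem_latImg.mpr ⟨G x, hGM.le (iterate_mem_latImg (F := G) (s := 1) hx), hgG x⟩
    obtain ⟨ν, hν⟩ : ∃ ν : ℕ, -c = ν := ⟨(-c).toNat, by omega⟩
    have := span_fixed_eq_top_of_pos (ν := ν) (by omega)
      (fun w => by rw [Isoc.frob_algebraMap, hν]; rfl) hG' hM hG'M
    refine eq_top_iff.mpr (this.symm.le.trans (Submodule.span_mono fun v hv => ?_))
    have : G (g v) = G v := by rw [show g v = v from hv]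
    exact (this.symm.trans (hg v) : G v = v)
  · obtain ⟨ν, rfl⟩ : ∃ ν : ℕ, c = ν := ⟨c.toNat, by omega⟩
    exact span_fixed_eq_top_of_pos (by omega) hτ hG hM hGM

theorem frob_pow_algebraMap (a : ℤ) (s : ℕ) (w : W) :
    (Isoc.frob p k a ^ s) (ι w) = ι ((WittVector.frobeniusEquiv p k ^ (a * s)) w) := by
  induction s generalizing w with
  | zero => simp
  | succ s ih =>
    rw [pow_succ', RingHom.coe_mul, Function.comp_apply, ih, Isoc.frob_algebraMap, Nat.cast_succ,
      show a * ((s : ℤ) + 1) = a + a * s by ring, zpow_add]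
    rfl

/-! ### standard pieces -/

/-- `e_j ↦ F^j v` -/
def stdHom (F : N →ₛₗ[τ] N) (h : ℕ) (v : N) : (Fin h → L) →ₗ[L] N :=
  Fintype.linearCombination L fun i : Fin h => (⇑F)^[i.val] v

theorem stdHom_intertwine (F : N →ₛₗ[τ] N) {d : ℤ} {h : ℕ} {v : N}
    (hv : (⇑F)^[h] v = (p : L) ^ d • v) (x : Fin h → L) :
    stdHom F h v (Isoc.stdIsoc τ d h x) = F (stdHom F h v x) := by
  simp only [stdHom, Fintype.linearCombination_apply, map_sum, map_smulₛₗ]
  rw [← Equiv.sum_comp (finRotate h)]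
  refine Finset.sum_congr rfl fun i _ => ?_
  rw [Isoc.stdIsoc_apply, Equiv.symm_apply_apply, ← Function.iterate_succ_apply' F]
  obtain ⟨h', rfl⟩ : ∃ h', h = h' + 1 := ⟨h - 1, by have := i.pos; omega⟩
  rw [coe_finRotate]
  rcases eq_or_ne i (Fin.last h') with h1 | h1
  · rw [if_pos h1, if_pos rfl, h1, Fin.val_last, hv, Function.iterate_zero_apply, smul_smul, mul_comm]
  · rw [if_neg h1, if_neg (Nat.succ_ne_zero _), one_mul]

theorem stdHom_single (F : N →ₛₗ[τ] N) {h : ℕ} (hh : 0 < h) (v : N) :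
    stdHom F h v (Pi.single ⟨0, hh⟩ 1) = v := by
  simp [stdHom]

theorem stdHom_injective [Good τ] (F : N →ₛₗ[τ] N) {d : ℤ} {h : ℕ} (hh : 0 < h) (hdh : Int.gcd d h = 1) {v : N}
    (hv : (⇑F)^[h] v = (p : L) ^ d • v) (hv0 : v ≠ 0) : Function.Injective (stdHom F h v) := by
  rcases stdIsoc_simple (τ := τ) d hh hdh (LinearMap.ker (stdHom F h v)) (fun x hx => by
    rw [LinearMap.mem_ker] at hx ⊢
    rw [stdHom_intertwine F hv, hx, map_zero]) with h0 | h0
  · exact LinearMap.ker_eq_bot.mp h0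
  · exfalso
    have h1 : Pi.single (⟨0, hh⟩ : Fin h) (1 : L) ∈ LinearMap.ker (stdHom F h v) := h0 ▸ Submodule.mem_top
    rw [LinearMap.mem_ker, stdHom_single] at h1
    exact hv0 h1

/-- a vector generating a standard piece -/
def IsStdVec (F : N →ₛₗ[τ] N) (v : N) : Prop :=
  ∃ (d : ℤ) (h : ℕ), 0 < h ∧ Int.gcd d h = 1 ∧ (⇑F)^[h] v = (p : L) ^ d • v

theorem span_isStdVec [IsAlgClosed k] {a : ℤ} (ha : a ≠ 0) {F : N →ₛₗ[Isoc.frob p k a] N}
    (hF : Isoc.IsIsoc F) : Submodule.span L {v | IsStdVec F v} = ⊤ := by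
  haveI := hF.finite
  rw [eq_top_iff, ← iSup_slopePart_eq_top hF.bijective, iSup_le_iff]
  intro μ
  rcases eq_or_ne (Isoc.slopePart F μ) ⊥ with h0 | h0
  · rw [h0]; exact bot_le
  have hP := isoclinicOn_slopePart F μ
  set P := Isoc.slopePart F μ
  haveI : Nontrivial P := (Submodule.nontrivial_iff_ne_bot).mpr h0
  set F' := F.restrict hP.1
  have hb := bijective_restrict hF.bijective hP.1
  obtain ⟨M, hM, r, s, hs, hrs, heq⟩ := (isIsoclinic_restrict_iff hP.1).mpr hP
  obtain ⟨e, he⟩ := exists_isOrdP (detFun_ne_zero (Module.finBasis L P) hb)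
  have hre := mul_rank_eq hb (Module.finBasis L P) he hM heq
  have hc : r * μ.den = μ.num * s := cross_eq hs μ.pos (hrs.trans μ.num_div_den.symm)
  have hnd : μ.num * (Module.finrank L P : ℕ) = μ.den * e := by
    refine mul_left_cancel₀ (show (s : ℤ) ≠ 0 by exact_mod_cast hs.ne') ?_
    rw [← mul_assoc, mul_comm (s : ℤ), ← hc, mul_right_comm, hre]
    ring
  have hl : Isoc.IsFirstSlope F' ((μ.num : ℝ) / μ.den) := by
    have h1 := isFirstSlope_of_latImg_eq hb hM hs heq
    have h2 : (((r : ℚ) / s : ℚ) : ℝ) = ((μ.num : ℚ) / μ.den : ℚ) := by rw [μ.num_div_den, hrs]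
    push_cast at h2
    rwa [h2] at h1
  obtain ⟨M', hM', heq'⟩ := exists_lattice_eq_of_slope_eq hb (Module.finBasis L P) he μ.pos hl hnd
  have htop := span_fixed_eq_top (c := a * μ.den) (mul_ne_zero ha (by exact_mod_cast μ.den_nz))
    (frob_pow_algebraMap a μ.den) (norIter_bijective hb μ.num μ.den) hM'
    ((latImg_eq_pPow_iff F' μ.num μ.den M').mp heq')
  calc P = (⊤ : Submodule L P).map P.subtype := (Submodule.map_subtype_top P).symm
    _ = (Submodule.span L {v | norIter F' μ.num μ.den v = v}).map P.subtype := by rw [htop]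
    _ ≤ Submodule.span L {v | IsStdVec F v} := by
      rw [Submodule.map_span]
      refine Submodule.span_mono ?_
      rintro _ ⟨v, hv, rfl⟩
      refine ⟨μ.num, μ.den, μ.pos, ?_, ?_⟩
      · rw [Int.gcd_def, Int.natAbs_natCast]; exact μ.reduced
      · have h1 := congrArg (fun y : P => (p : L) ^ μ.num • (y : N)) (show norIter F' μ.num μ.den v = v from hv)
        simp only [norIter_apply, Submodule.coe_smul, smul_smul, ← zpow_add₀ (pL_ne_zero (p := p) (k := k)),
          add_neg_cancel, zpow_zero, one_smul] at h1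
        rw [← iterate_intertwine P.subtype (F := F') (F' := F) (fun _ => rfl) μ.den v]
        exact h1

theorem exists_stdVec_not_mem [IsAlgClosed k] {a : ℤ} (ha : a ≠ 0) {F : N →ₛₗ[Isoc.frob p k a] N}
    (hF : Isoc.IsIsoc F) {X : Submodule L N} (hX : X ≠ ⊤) : ∃ v, IsStdVec F v ∧ v ∉ X := by
  by_contra h
  push Not at h
  exact hX (eq_top_iff.mpr ((span_isStdVec ha hF).symm.le.trans (Submodule.span_le.mpr h)))

theorem disjoint_stdHom [Good τ] (F : N →ₛₗ[τ] N) {d : ℤ} {h : ℕ} (hh : 0 < h) (hdh : Int.gcd d h = 1) {v : N}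
    (hv : (⇑F)^[h] v = (p : L) ^ d • v) {X : Submodule L N} (hX : ∀ x ∈ X, F x ∈ X) (hvX : v ∉ X) :
    Disjoint X (LinearMap.range (stdHom F h v)) := by
  rw [Submodule.disjoint_def]
  rintro _ hx ⟨y, rfl⟩
  rcases stdIsoc_simple (τ := τ) d hh hdh (X.comap (stdHom F h v)) (fun z hz => by
    rw [Submodule.mem_comap] at hz ⊢
    rw [stdHom_intertwine F hv]
    exact hX _ hz) with h0 | h0
  · have : y ∈ X.comap (stdHom F h v) := hx
    rw [h0, Submodule.mem_bot] at this
    rw [this, map_zero]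
  · exfalso
    have h1 : Pi.single (⟨0, hh⟩ : Fin h) (1 : L) ∈ X.comap (stdHom F h v) := h0 ▸ Submodule.mem_top
    rw [Submodule.mem_comap, stdHom_single] at h1
    exact hvX h1

theorem stable_range_stdHom (F : N →ₛₗ[τ] N) {d : ℤ} {h : ℕ} {v : N}
    (hv : (⇑F)^[h] v = (p : L) ^ d • v) :
    ∀ x ∈ LinearMap.range (stdHom F h v), F x ∈ LinearMap.range (stdHom F h v) := by
  rintro _ ⟨y, rfl⟩
  exact ⟨_, stdHom_intertwine F hv y⟩

theorem stable_sup (F : N →ₛₗ[τ] N) {P Q : Submodule L N} (hP : ∀ x ∈ P, F x ∈ P) (hQ : ∀ x ∈ Q, F x ∈ Q) :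
    ∀ x ∈ P ⊔ Q, F x ∈ P ⊔ Q := by
  intro x hx
  obtain ⟨a, ha, b, hb, rfl⟩ := Submodule.mem_sup.mp hx
  rw [map_add]
  exact Submodule.add_mem_sup (hP a ha) (hQ b hb)

theorem exists_isCompl_stable [IsAlgClosed k] {a : ℤ} (ha : a ≠ 0) {F : N →ₛₗ[Isoc.frob p k a] N}
    (hF : Isoc.IsIsoc F) {P : Submodule L N} (hP : ∀ x ∈ P, F x ∈ P) :
    ∃ Q : Submodule L N, (∀ x ∈ Q, F x ∈ Q) ∧ IsCompl P Q := by
  haveI := hF.finite
  obtain ⟨Q, ⟨hQ, hPQ⟩, hmax⟩ := set_has_maximal_iff_noetherian.mpr (inferInstanceAs (IsNoetherian L N))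
    {Q : Submodule L N | (∀ x ∈ Q, F x ∈ Q) ∧ Disjoint P Q}
    ⟨⊥, fun x hx => by rw [Submodule.mem_bot] at hx ⊢; rw [hx, map_zero], disjoint_bot_right⟩
  refine ⟨Q, hQ, hPQ, codisjoint_iff.mpr ?_⟩
  by_contra hne
  obtain ⟨v, ⟨d, h, hh, hdh, hv⟩, hvX⟩ := exists_stdVec_not_mem ha hF hne
  have hd := disjoint_stdHom F hh hdh hv (stable_sup F hP hQ) hvX
  refine hmax (Q ⊔ LinearMap.range (stdHom F h v))
    ⟨stable_sup F hQ (stable_range_stdHom F hv), hPQ.disjoint_sup_right_of_disjoint_sup_left hd⟩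
    (lt_of_le_of_ne le_sup_left fun e => hvX ?_)
  rw [e]
  exact Submodule.mem_sup_right (Submodule.mem_sup_right ⟨_, stdHom_single F hh v⟩)

theorem exists_classification [IsAlgClosed k] {a : ℤ} (ha : a ≠ 0) {F : N →ₛₗ[Isoc.frob p k a] N}
    (hF : Isoc.IsIsoc F) :
    ∃ (t : ℕ) (d : Fin t → ℤ) (h : Fin t → ℕ)
      (e : N ≃ₗ[L] ((i : Fin t) → (Fin (h i) → L))),
      (∀ i, 0 < h i ∧ Int.gcd (d i) (h i) = 1) ∧
      ∀ (x : N) (i : Fin t), e (F x) i = Isoc.stdIsoc (Isoc.frob p k a) (d i) (h i) (e x i) := by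
  haveI := hF.finite
  let S : Set (Submodule L N) := {Q | ∃ (t : ℕ) (d : Fin t → ℤ) (h : Fin t → ℕ)
    (f : ((i : Fin t) → (Fin (h i) → L)) →ₗ[L] N), Function.Injective f ∧
      (∀ i, 0 < h i ∧ Int.gcd (d i) (h i) = 1) ∧
      (∀ z, f (fun i => Isoc.stdIsoc (Isoc.frob p k a) (d i) (h i) (z i)) = F (f z)) ∧ LinearMap.range f = Q}
  obtain ⟨Q, ⟨t, d, h, f, hinj, hdh, hf, rfl⟩, hmax⟩ :=
    set_has_maximal_iff_noetherian.mpr (inferInstanceAs (IsNoetherian L N)) S
      ⟨⊥, 0, Fin.elim0, Fin.elim0, 0, fun x y _ => funext fun i => i.elim0, fun i => i.elim0,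
        fun z => by simp, by simp⟩
  have htop : LinearMap.range f = ⊤ := by
    by_contra hne
    obtain ⟨v, ⟨d₀, h₀, hh, hgcd, hv⟩, hvX⟩ := exists_stdVec_not_mem ha hF hne
    have hstab : ∀ x ∈ LinearMap.range f, F x ∈ LinearMap.range f := by
      rintro _ ⟨z, rfl⟩
      exact ⟨_, hf z⟩
    have hd := disjoint_stdHom F hh hgcd hv hstab hvX
    let T := (i : Fin (t + 1)) → (Fin (Fin.cons (α := fun _ => ℕ) h₀ h i) → L)
    let π₀ : T →ₗ[L] (Fin h₀ → L) := LinearMap.proj (R := L)
      (φ := fun i : Fin (t + 1) => Fin (Fin.cons (α := fun _ => ℕ) h₀ h i) → L) 0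
    let πs : T →ₗ[L] ((i : Fin t) → (Fin (h i) → L)) := LinearMap.pi fun i => LinearMap.proj (R := L)
      (φ := fun i : Fin (t + 1) => Fin (Fin.cons (α := fun _ => ℕ) h₀ h i) → L) i.succ
    let f' : T →ₗ[L] N := stdHom F h₀ v ∘ₗ π₀ + f ∘ₗ πs
    have hf' : ∀ z, f' z = stdHom F h₀ v (π₀ z) + f (πs z) := fun z => rfl
    have hsec : ∀ (x : Fin h₀ → L) (z : (i : Fin t) → (Fin (h i) → L)), ∃ w, π₀ w = x ∧ πs w = z := fun x z =>
      ⟨Fin.cons (α := fun i => Fin (Fin.cons (α := fun _ => ℕ) h₀ h i) → L) x z, rfl, rfl⟩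
    refine hmax (LinearMap.range f') ⟨t + 1, Fin.cons d₀ d, Fin.cons h₀ h, f', ?_, ?_, ?_, rfl⟩
      (lt_of_le_of_ne ?_ fun e => hvX ?_)
    · refine (injective_iff_map_eq_zero f').mpr fun z hz => ?_
      rw [hf', add_eq_zero_iff_eq_neg, ← map_neg] at hz
      have h1 : stdHom F h₀ v (π₀ z) = 0 :=
        Submodule.disjoint_def.mp hd _ (hz ▸ LinearMap.mem_range_self f _) (LinearMap.mem_range_self _ _)
      have h2 : π₀ z = 0 := stdHom_injective F hh hgcd hv (fun h0 => hvX (h0 ▸ Submodule.zero_mem _))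
        (h1.trans (map_zero _).symm)
      have h3 : πs z = 0 := by
        rw [h1] at hz
        exact neg_eq_zero.mp (hinj (hz.symm.trans (map_zero f).symm))
      funext i
      refine Fin.cases ?_ (fun j => ?_) i
      · exact h2
      · exact congrFun h3 j
    · intro i
      refine Fin.cases ?_ (fun j => ?_) i
      · exact ⟨hh, hgcd⟩
      · exact hdh j
    · intro z
      rw [hf' z, map_add, ← stdHom_intertwine F hv, ← hf, hf']
      exact congrArg₂ (· + ·) (congrArg (stdHom F h₀ v) rfl) (congrArg f rfl)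
    · rintro _ ⟨z, rfl⟩
      obtain ⟨w, hw₀, hws⟩ := hsec 0 z
      exact ⟨w, by rw [hf', hw₀, hws, map_zero, zero_add]⟩
    · rw [e]
      obtain ⟨w, hw₀, hws⟩ := hsec (Pi.single ⟨0, hh⟩ 1) 0
      exact ⟨w, by rw [hf', hw₀, hws, stdHom_single, map_zero, add_zero]⟩
  let e := LinearEquiv.ofBijective f ⟨hinj, LinearMap.range_eq_top.mp htop⟩
  refine ⟨t, d, h, e.symm, hdh, fun x i => ?_⟩
  obtain ⟨z, rfl⟩ := e.surjective x
  have he : ∀ y, e y = f y := fun y => rfl
  rw [e.symm_apply_apply, he z, ← hf, ← he, e.symm_apply_apply]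

theorem newtonMult_eq {t : ℕ} (d : Fin t → ℤ) (h : Fin t → ℕ) [Good τ] [Module.Finite L N] {F : N →ₛₗ[τ] N}
    (e : N ≃ₗ[L] ((i : Fin t) → (Fin (h i) → L))) (hdh : ∀ i, 0 < h i)
    (he : ∀ (x : N) (i : Fin t), e (F x) i = Isoc.stdIsoc τ (d i) (h i) (e x i)) (μ : ℚ) :
    Isoc.newtonMult F μ = ∑ i : Fin t, (if ((d i : ℚ) / (h i : ℚ)) = μ then h i else 0) := by
  classical
  have hP := isoclinicOn_slopePart F μ
  set P := Isoc.slopePart F μ with hPdef
  let q : Fin t → Prop := fun i => (d i : ℚ) / h i = μ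
  have hsingle : ∀ i, q i → ∀ y : Fin (h i) → L, e.symm (Pi.single i y) ∈ P := by
    intro i hi y
    let g : (Fin (h i) → L) →ₗ[L] N := e.symm.toLinearMap ∘ₗ LinearMap.single L (fun i => Fin (h i) → L) i
    have hg : ∀ x, g (Isoc.stdIsoc τ (d i) (h i) x) = F (g x) := by
      intro x
      apply e.injective
      funext j
      rw [he]
      simp only [g, LinearMap.comp_apply, LinearEquiv.coe_coe, LinearEquiv.apply_symm_apply, LinearMap.coe_single]
      rcases eq_or_ne j i with rfl | hne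
      · simp
      · simp [hne]
    have h1 := ((isoclinicOn_std (τ := τ) (d i) (hdh i)).map g hg).le_slopePart
    rw [show (d i : ℚ) / h i = μ from hi] at h1
    exact h1 ⟨y, Submodule.mem_top, rfl⟩
  have hzero : ∀ x : P, ∀ i, ¬ q i → e x i = 0 := by
    intro x i hi
    haveI : Module.Finite L P := inferInstance
    have h0 := eq_zero_of_morphism (F := F.restrict hP.1) (F' := Isoc.stdIsoc τ (d i) (h i))
      (stdIsoc_bijective τ (d i) (h i)) ((isIsoclinic_restrict_iff hP.1).mpr hP)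
      (isoclinicOn_top_iff.mp (isoclinicOn_std (d i) (hdh i))) (Ne.symm hi)
      (LinearMap.proj i ∘ₗ e.toLinearMap ∘ₗ P.subtype) (fun y => he y i)
    exact LinearMap.congr_fun h0 x
  let Φ : P →ₗ[L] ((i : {i // q i}) → (Fin (h i.1) → L)) :=
    LinearMap.pi fun i => LinearMap.proj i.1 ∘ₗ e.toLinearMap ∘ₗ P.subtype
  have hΦ : ∀ x i, Φ x i = e (x : N) i.1 := fun x i => rfl
  have hbij : Function.Bijective Φ := by
    refine ⟨(injective_iff_map_eq_zero Φ).mpr fun x hx => ?_, fun z => ?_⟩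
    · refine Subtype.ext (e.injective ?_)
      rw [Submodule.coe_zero, map_zero]
      funext i
      by_cases hi : q i
      · exact congrFun hx ⟨i, hi⟩
      · exact hzero x i hi
    · refine ⟨⟨e.symm (∑ i : {i // q i}, Pi.single i.1 (z i)), ?_⟩, ?_⟩
      · rw [map_sum]
        exact Submodule.sum_mem _ fun i _ => hsingle i.1 i.2 _
      · funext i
        rw [hΦ]
        simp only [LinearEquiv.apply_symm_apply, Finset.sum_apply]
        rw [Finset.sum_eq_single i, Pi.single_eq_same]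
        · intro j _ hne
          exact Pi.single_eq_of_ne (fun e => hne (Subtype.ext e.symm)) _
        · simp
  rw [Isoc.newtonMult, (LinearEquiv.ofBijective Φ hbij).finrank_eq, Module.finrank_pi_fintype]
  simp only [Module.finrank_fin_fun]
  rw [← Finset.sum_filter, ← Finset.sum_subtype (Finset.univ.filter q) (by simp) h]

end Groth.Agent.IsocLib
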