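import Groth.Agent.IsocLib.Det
import Mathlib.Analysis.Subadditive
import Mathlib.Analysis.SpecificLimits.Basic
import Mathlib.NumberTheory.DiophantineApproximation.Basic
import Mathlib.Tactic.Linarith
import Mathlib.Tactic.FieldSimp

/-!
# Isocrystals: orders, the first slope, effectivity
-/

set_option autoImplicit false
set_option linter.style.haveILetI false

universe u v

noncomputable section

open Filter Topology

namespace Groth.Agent.IsocLib

variable {p : ℕ} [Fact p.Prime] {k : Type u} [Field k] [CharP k p] [PerfectRing k p]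
  {N : Type v} [AddCommGroup N] [Module (WittVector p k) N]
  [Module (FractionRing (WittVector p k)) N]
  [IsScalarTower (WittVector p k) (FractionRing (WittVector p k)) N]
  {τ : FractionRing (WittVector p k) →+* FractionRing (WittVector p k)} [Good τ]

local notation "W" => WittVector p k
local notation "L" => FractionRing (WittVector p k)

theorem lattice_ne_bot [Nontrivial N] {M : Submodule W N} (hM : M.IsLattice L) : M ≠ ⊥ := by
  intro h
  have := hM.span_eq_top
  rw [h, Submodule.bot_coe, Submodule.span_zero_singleton] at this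
  exact bot_ne_top this

theorem isOrd_iff {M : Submodule W N} {F : N →ₛₗ[τ] N} {s : ℕ} {r : ℤ} (h : Isoc.IsOrd M F s r) (r' : ℤ) :
    Isoc.latImg F s M ≤ Isoc.pPow r' M ↔ r' ≤ r := by
  refine ⟨fun h' => ?_, fun h' => h.1.trans (pPow_anti h' M)⟩
  by_contra hlt
  exact h.2 (h'.trans (pPow_anti (by omega) M))

theorem isOrd_unique {M : Submodule W N} {F : N →ₛₗ[τ] N} {s : ℕ} {r r' : ℤ} (h : Isoc.IsOrd M F s r)
    (h' : Isoc.IsOrd M F s r') : r = r' :=
  le_antisymm ((isOrd_iff h' r).mp h.1) ((isOrd_iff h r').mp h'.1)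

theorem exists_isOrd [Module.Finite L N] [Nontrivial N] {M : Submodule W N} (hM : M.IsLattice L)
    {F : N →ₛₗ[τ] N} (hF : Function.Bijective F) (s : ℕ) : ∃ r, Isoc.IsOrd M F s r := by
  obtain ⟨c₀, hc₀⟩ := exists_le_pPow hM (isLattice_latImg hF.2 s hM).fg
  obtain ⟨x, hx, hx0⟩ := Submodule.exists_mem_ne_zero_of_ne_bot (lattice_ne_bot hM)
  have hne : (⇑F)^[s] x ≠ 0 := by
    intro h
    rw [← Isoc.iter_apply] at h
    exact hx0 ((hF.1.iterate s) (h.trans (map_zero (Isoc.iter F s)).symm))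
  obtain ⟨c₁, hc₁⟩ := exists_not_mem_pPow hM hne
  obtain ⟨r, hr, hmax⟩ := Int.exists_greatest_of_bdd (P := fun r => Isoc.latImg F s M ≤ Isoc.pPow r M)
    ⟨c₁, fun r hr => hc₁ r (hr (iterate_mem_latImg hx))⟩ ⟨c₀, hc₀⟩
  exact ⟨r, hr, fun h => by have := hmax _ h; omega⟩

theorem superadd {M : Submodule W N} {F : N →ₛₗ[τ] N} {m n : ℕ} {rm rn : ℤ}
    (hm : Isoc.latImg F m M ≤ Isoc.pPow rm M) (hn : Isoc.latImg F n M ≤ Isoc.pPow rn M) :
    Isoc.latImg F (m + n) M ≤ Isoc.pPow (rm + rn) M := by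
  rw [latImg_add]
  refine (latImg_mono hn).trans ?_
  rw [latImg_pPow, add_comm rm, ← pPow_pPow]
  exact pPow_mono rn hm

theorem mul_rank_le {h : ℕ} (b₀ : Module.Basis (Fin h) L N) {F : N →ₛₗ[τ] N} {d : ℤ}
    (hd : Isoc.IsOrdP (detFun b₀ F) d) {M : Submodule W N} (hM : M.IsLattice L) (n : ℕ) {r : ℤ}
    (hr : Isoc.latImg F n M ≤ Isoc.pPow r M) : r * h ≤ n * d := by
  haveI := Module.Finite.of_basis b₀
  obtain ⟨b, rfl⟩ := exists_basis hM
  have hh : Module.finrank L N = h := by simp [Module.finrank_eq_card_basis b₀]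
  have hord := isOrdP_detFun_iterate b F (isOrdP_detFun_basis' b₀ b hd) n
  have hG := latImg_le_pPow_iff F r n (Submodule.span W (Set.range b)) |>.mp hr
  have hdet : Isoc.IsOrdP (detFun b (norIter F r n)) ((Module.finrank L N : ℤ) * (-r) + n * d) := by
    rw [show (norIter F r n : N → N) = fun x => (p : L) ^ (-r) • (⇑F)^[n] x from rfl, detFun_smul]
    exact isOrdP_mul (isOrdP_pow (isOrdP_zpow (-r)) _) hord
  have := nonneg_of_stable b (norIter F r n) (fun j => by
    simpa using hG (iterate_mem_latImg (F := norIter F r n) (s := 1) (Submodule.subset_span ⟨j, rfl⟩))) hdet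
  rw [hh] at this
  linarith

theorem rank_pos [Nontrivial N] {h : ℕ} (b₀ : Module.Basis (Fin h) L N) : 0 < h := by
  rcases Nat.eq_zero_or_pos h with rfl | h0
  · exact absurd (subsingleton_iff.mp b₀.repr.toEquiv.subsingleton) (by
      obtain ⟨x, y, hxy⟩ := exists_pair_ne N
      exact fun hall => hxy (hall x y))
  · exact h0

theorem exists_ord_seq [Module.Finite L N] [Nontrivial N] {M : Submodule W N} (hM : M.IsLattice L)
    {F : N →ₛₗ[τ] N} (hF : Function.Bijective F) :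
    ∃ o : ℕ → ℤ, (∀ n, Isoc.IsOrd M F n (o n)) ∧ o 0 = 0 := by
  choose o ho using fun n => exists_isOrd hM hF n
  refine ⟨o, ho, ?_⟩
  have h1 : (0 : ℤ) ≤ o 0 := (isOrd_iff (ho 0) 0).mp (by rw [latImg_zero, pPow_zero])
  let b₀ := Module.finBasis L N
  obtain ⟨d, hd⟩ := exists_isOrdP (detFun_ne_zero b₀ hF)
  have h2 := mul_rank_le b₀ hd hM 0 (ho 0).1
  have := rank_pos b₀
  push_cast at h2
  nlinarith

theorem exists_slope [Module.Finite L N] [Nontrivial N] {M : Submodule W N} (hM : M.IsLattice L)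
    {F : N →ₛₗ[τ] N} (hF : Function.Bijective F) :
    ∃ o : ℕ → ℤ, (∀ n, Isoc.IsOrd M F n (o n)) ∧
      ∃ lam : ℝ, Tendsto (fun n : ℕ => (o n : ℝ) / n) atTop (𝓝 lam) ∧
        ∀ n, n ≠ 0 → (o n : ℝ) / n ≤ lam := by
  obtain ⟨o, ho, ho0⟩ := exists_ord_seq hM hF
  refine ⟨o, ho, ?_⟩
  let u : ℕ → ℝ := fun n => -(o n : ℝ)
  have hu : Subadditive u := fun m n => by
    have := (isOrd_iff (ho (m + n)) _).mp (superadd (ho m).1 (ho n).1)
    have h2 : (o m : ℝ) + o n ≤ o (m + n) := by exact_mod_cast this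
    simp only [u]
    linarith
  let b₀ := Module.finBasis L N
  obtain ⟨d, hd⟩ := exists_isOrdP (detFun_ne_zero b₀ hF)
  have hbdd : BddBelow (Set.range fun n => u n / n) := by
    refine ⟨-(max 0 ((d : ℝ) / Module.finrank L N)), ?_⟩
    rintro _ ⟨n, rfl⟩
    rcases Nat.eq_zero_or_pos n with rfl | hn
    · simp
    · have h1 := mul_rank_le b₀ hd hM n (ho n).1
      have h2 : (o n : ℝ) * Module.finrank L N ≤ n * d := by exact_mod_cast h1
      have hh : (0 : ℝ) < Module.finrank L N := by exact_mod_cast rank_pos b₀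
      have hn' : (0 : ℝ) < n := by exact_mod_cast hn
      simp only [u, neg_div]
      refine neg_le_neg ((?_ : _ ≤ (d : ℝ) / Module.finrank L N).trans (le_max_right _ _))
      rw [div_le_div_iff₀ hn' hh]
      linarith
  refine ⟨-hu.lim, ?_, fun n hn => ?_⟩
  · have := (hu.tendsto_lim hbdd).neg
    simpa [u, neg_div] using this
  · have := hu.lim_le_div hbdd hn
    simp only [u, neg_div] at this
    linarith

theorem ord_le_ord_add [Module.Finite L N] {F : N →ₛₗ[τ] N} {M₁ M₂ : Submodule W N} {c e : ℤ}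
    (h₁ : M₁ ≤ Isoc.pPow c M₂) (h₂ : M₂ ≤ Isoc.pPow e M₁) {n : ℕ} {r₁ r₂ : ℤ}
    (ho₁ : Isoc.IsOrd M₁ F n r₁) (ho₂ : Isoc.IsOrd M₂ F n r₂) : c + r₂ + e ≤ r₁ := by
  refine (isOrd_iff ho₁ _).mp ((latImg_mono h₁).trans ?_)
  rw [latImg_pPow, ← pPow_pPow]
  refine (pPow_mono c ho₂.1).trans ?_
  rw [pPow_pPow]
  exact pPow_mono _ h₂

theorem tendsto_of_lattice [Module.Finite L N] {F : N →ₛₗ[τ] N} {M₁ M₂ : Submodule W N}
    (hM₁ : M₁.IsLattice L) (hM₂ : M₂.IsLattice L) {o₁ o₂ : ℕ → ℤ}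
    (ho₁ : ∀ n, 1 ≤ n → Isoc.IsOrd M₁ F n (o₁ n)) (ho₂ : ∀ n, 1 ≤ n → Isoc.IsOrd M₂ F n (o₂ n)) {lam : ℝ}
    (h₁ : Tendsto (fun n : ℕ => (o₁ n : ℝ) / n) atTop (𝓝 lam)) :
    Tendsto (fun n : ℕ => (o₂ n : ℝ) / n) atTop (𝓝 lam) := by
  obtain ⟨c, hc⟩ := exists_le_pPow hM₂ hM₁.fg
  obtain ⟨e, he⟩ := exists_le_pPow hM₁ hM₂.fg
  have key : ∀ n : ℕ, 1 ≤ n → (o₁ n : ℝ) / n + ((c + e : ℤ) : ℝ) / n ≤ o₂ n / n ∧
      (o₂ n : ℝ) / n ≤ o₁ n / n - ((c + e : ℤ) : ℝ) / n := by
    intro n hn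
    have a := ord_le_ord_add hc he (ho₁ n hn) (ho₂ n hn)
    have b := ord_le_ord_add he hc (ho₂ n hn) (ho₁ n hn)
    have hn' : (0 : ℝ) < n := by exact_mod_cast hn
    rw [← add_div, ← sub_div, div_le_div_iff_of_pos_right hn', div_le_div_iff_of_pos_right hn']
    exact ⟨by exact_mod_cast (by omega : o₁ n + (c + e) ≤ o₂ n), by exact_mod_cast (by omega : o₂ n ≤ o₁ n - (c + e))⟩
  have h0 : Tendsto (fun n : ℕ => ((c + e : ℤ) : ℝ) / n) atTop (𝓝 0) := tendsto_const_div_atTop_nhds_zero_nat _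
  exact tendsto_of_tendsto_of_tendsto_of_le_of_le' (by simpa using h₁.add h0) (by simpa using h₁.sub h0)
    ((eventually_ge_atTop 1).mono fun n hn => (key n hn).1) ((eventually_ge_atTop 1).mono fun n hn => (key n hn).2)

theorem IsFirstSlope.nontrivial {F : N →ₛₗ[τ] N} {lam : ℝ} (h : Isoc.IsFirstSlope F lam) : Nontrivial N := by
  obtain ⟨M, hM, o, ho, -⟩ := h
  by_contra hN
  rw [not_nontrivial_iff_subsingleton] at hN
  refine (ho 1 le_rfl).2 fun x _ => ?_
  rw [Subsingleton.elim x 0]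
  exact Submodule.zero_mem _

theorem IsFirstSlope.exists_seq [Module.Finite L N] {F : N →ₛₗ[τ] N} (hF : Function.Bijective F) {lam : ℝ}
    (h : Isoc.IsFirstSlope F lam) {M : Submodule W N} (hM : M.IsLattice L) :
    ∃ o : ℕ → ℤ, (∀ n, Isoc.IsOrd M F n (o n)) ∧ Tendsto (fun n : ℕ => (o n : ℝ) / n) atTop (𝓝 lam) ∧
      ∀ n, n ≠ 0 → (o n : ℝ) / n ≤ lam := by
  haveI := IsFirstSlope.nontrivial h
  obtain ⟨M', hM', o', ho', hl'⟩ := h
  obtain ⟨o, ho, lam', hl, hle⟩ := exists_slope hM hF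
  obtain rfl : lam = lam' :=
    tendsto_nhds_unique (tendsto_of_lattice hM' hM ho' (fun n _ => ho n) hl') hl
  exact ⟨o, ho, hl, hle⟩

theorem le_slope [Module.Finite L N] {F : N →ₛₗ[τ] N} (hF : Function.Bijective F) {lam : ℝ}
    (h : Isoc.IsFirstSlope F lam) {M : Submodule W N} (hM : M.IsLattice L) {r : ℤ} {s : ℕ} (hs : 0 < s)
    (hle : Isoc.latImg F s M ≤ Isoc.pPow r M) : (r : ℝ) / s ≤ lam := by
  obtain ⟨o, ho, -, hle'⟩ := IsFirstSlope.exists_seq hF h hM
  refine le_trans ?_ (hle' s hs.ne')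
  have : (r : ℝ) ≤ o s := by exact_mod_cast (isOrd_iff (ho s) r).mp hle
  gcongr

theorem slope_le_det [Module.Finite L N] {F : N →ₛₗ[τ] N} (hF : Function.Bijective F) {lam : ℝ}
    (h : Isoc.IsFirstSlope F lam) {n : ℕ} (b₀ : Module.Basis (Fin n) L N) {d : ℤ}
    (hd : Isoc.IsOrdP (detFun b₀ F) d) : lam * n ≤ d := by
  haveI := IsFirstSlope.nontrivial h
  obtain ⟨M, hM, -⟩ := id h
  obtain ⟨o, ho, hl, -⟩ := IsFirstSlope.exists_seq hF h hM
  have hn : (0 : ℝ) < n := by exact_mod_cast rank_pos b₀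
  rw [← le_div_iff₀ hn]
  refine le_of_tendsto hl ((eventually_ge_atTop 1).mono fun j hj => ?_)
  have hj' : (0 : ℝ) < j := by exact_mod_cast hj
  rw [div_le_div_iff₀ hj' hn]
  have := mul_rank_le b₀ hd hM j (ho j).1
  have h2 : (o j : ℝ) * n ≤ j * d := by exact_mod_cast this
  linarith

theorem isFirstSlope_norIter [Module.Finite L N] {F : N →ₛₗ[τ] N} (hF : Function.Bijective F) {lam : ℝ}
    (h : Isoc.IsFirstSlope F lam) (r : ℤ) (s : ℕ) :
    Isoc.IsFirstSlope (norIter F r s) (s * lam - r) := by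
  haveI := IsFirstSlope.nontrivial h
  obtain ⟨M, hM, -⟩ := id h
  obtain ⟨o, ho, hl, -⟩ := IsFirstSlope.exists_seq hF h hM
  obtain ⟨o', ho'⟩ : ∃ o' : ℕ → ℤ, ∀ n, Isoc.IsOrd M (norIter F r s) n (o' n) :=
    ⟨_, fun n => (exists_isOrd hM (norIter_bijective hF r s) n).choose_spec⟩
  have heq : ∀ n, o' n = o (s * n) - n * r := by
    intro n
    refine isOrd_unique (ho' n) ⟨?_, ?_⟩
    · rw [latImg_norIter]
      have h2 := pPow_mono (-((n : ℤ) * r)) (ho (s * n)).1
      rw [pPow_pPow] at h2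
      exact (le_of_le_of_eq h2 (by congr 1; ring))
    · rw [latImg_norIter]
      intro h1
      refine (ho (s * n)).2 ?_
      have h2 := pPow_mono ((n : ℤ) * r) h1
      rw [pPow_pPow, add_neg_cancel, pPow_zero, pPow_pPow] at h2
      exact (le_of_le_of_eq h2 (by congr 1; ring))
  refine ⟨M, hM, o', fun n _ => ho' n, ?_⟩
  rcases Nat.eq_zero_or_pos s with rfl | hs
  · have h0 : o 0 = 0 := by
      obtain ⟨o₂, ho₂, h0⟩ := exists_ord_seq hM hF
      rw [isOrd_unique (ho 0) (ho₂ 0), h0]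
    refine tendsto_const_nhds.congr' ((eventually_ge_atTop 1).mono fun n hn => ?_)
    have hn' : (n : ℝ) ≠ 0 := by exact_mod_cast (show n ≠ 0 by omega)
    simp only [heq, Nat.zero_mul, h0]
    push_cast
    field_simp
    ring
  · have h1 : Tendsto (fun n : ℕ => s * n) atTop atTop :=
      tendsto_atTop_mono (fun n => Nat.le_mul_of_pos_left n hs) tendsto_id
    have h2 := ((hl.comp h1).const_mul (s : ℝ)).sub_const (r : ℝ)
    refine h2.congr' ((eventually_ge_atTop 1).mono fun n hn => ?_)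
    have hn' : (n : ℝ) ≠ 0 := by exact_mod_cast (show n ≠ 0 by omega)
    have hs' : (s : ℝ) ≠ 0 := by exact_mod_cast hs.ne'
    simp only [Function.comp_apply, heq]
    push_cast
    field_simp

theorem slope_nonneg [Module.Finite L N] {F : N →ₛₗ[τ] N} (hF : Function.Bijective F) {lam : ℝ}
    (h : Isoc.IsFirstSlope F lam) (he : Isoc.IsEffective F) : 0 ≤ lam := by
  obtain ⟨M, hM, hle⟩ := he
  simpa using le_slope hF h hM (r := 0) one_pos (by rwa [pPow_zero])

/-! ### effectivity -/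

/-- `M + F M + ⋯ + F^i M`. -/
def orbitSum (F : N →ₛₗ[τ] N) (M : Submodule W N) : ℕ → Submodule W N
  | 0 => M
  | i + 1 => M ⊔ Isoc.latImg F 1 (orbitSum F M i)

theorem orbitSum_succ (F : N →ₛₗ[τ] N) (M : Submodule W N) (i : ℕ) :
    orbitSum F M (i + 1) = orbitSum F M i ⊔ Isoc.latImg F (i + 1) M := by
  induction i with
  | zero => rfl
  | succ i ih =>
    rw [show orbitSum F M (i + 1 + 1) = M ⊔ Isoc.latImg F 1 (orbitSum F M (i + 1)) from rfl]
    conv_lhs => rw [ih, latImg_sup, ← latImg_add, ← sup_assoc, add_comm 1]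
    rfl

theorem orbitSum_mono (F : N →ₛₗ[τ] N) (M : Submodule W N) : Monotone (orbitSum F M) :=
  monotone_nat_of_le_succ fun i => by rw [orbitSum_succ]; exact le_sup_left

theorem orbitSum_isLattice {F : N →ₛₗ[τ] N} (hF : Function.Bijective F) {M : Submodule W N}
    (hM : M.IsLattice L) : ∀ i, (orbitSum F M i).IsLattice L
  | 0 => hM
  | i + 1 => isLattice_sup hM (isLattice_latImg hF.2 1 (orbitSum_isLattice hF hM i))

theorem effective_of_latImg_succ [Module.Finite L N] {F : N →ₛₗ[τ] N} (hF : Function.Bijective F)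
    {M : Submodule W N} (hM : M.IsLattice L) {h : ℕ} (hh : Module.finrank L N ≤ h)
    (hle : Isoc.latImg F (h + 1) M ≤ Isoc.pPow (-1) M) : Isoc.IsEffective F := by
  set P := orbitSum F M h with hP
  have hPl : P.IsLattice L := orbitSum_isLattice hF hM h
  have hMP : M ≤ P := orbitSum_mono F M (Nat.zero_le h)
  have hsucc : Isoc.latImg F 1 P ≤ P ⊔ Isoc.pPow (-1) M := by
    refine (le_sup_right (a := M)).trans ?_
    show orbitSum F M (h + 1) ≤ _
    rw [orbitSum_succ]
    exact sup_le_sup le_rfl hle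
  have hpP : Isoc.latImg F 1 (Isoc.pPow 1 P) ≤ Isoc.pPow 1 P ⊔ M := by
    rw [latImg_pPow]
    refine (pPow_mono 1 hsucc).trans ?_
    rw [pPow_sup, pPow_pPow, add_neg_cancel, pPow_zero]
  let X : ℕ → Submodule W N := fun i => match i with
    | 0 => Isoc.pPow 1 P
    | i + 1 => orbitSum F M i ⊔ Isoc.pPow 1 P
  have hup : ∀ i, i ≤ h + 1 → X i ≤ P := by
    rintro (_ | i) hi
    · exact (pPow_anti zero_le_one P).trans (pPow_zero P).le
    · exact sup_le (orbitSum_mono F M (by omega)) ((pPow_anti zero_le_one P).trans (pPow_zero P).le)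
  have hlow : ∀ i, i ≤ h + 1 → Isoc.pPow 1 P ≤ X i := by
    rintro (_ | i) _
    exacts [le_rfl, le_sup_right]
  have hmono : ∀ i, i ≤ h → X i ≤ X (i + 1) := by
    rintro (_ | i) _
    exacts [le_sup_right, sup_le_sup_right (orbitSum_mono F M (Nat.le_succ i)) _]
  obtain ⟨j, hj, hj'⟩ := exists_eq_succ_of_chain hPl X h hh hlow hup hmono
  rcases j with _ | j
  · refine ⟨P, hPl, hsucc.trans (sup_le le_rfl ?_)⟩
    have : M ≤ Isoc.pPow 1 P := (le_sup_left : M ≤ X 1).trans hj'.ge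
    have := pPow_mono (-1) this
    rwa [pPow_pPow, neg_add_cancel, pPow_zero] at this
  · refine ⟨X (j + 1), isLattice_sup (orbitSum_isLattice hF hM j) (isLattice_pPow 1 hPl), ?_⟩
    show Isoc.latImg F 1 (orbitSum F M j ⊔ Isoc.pPow 1 P) ≤ _
    rw [latImg_sup]
    refine sup_le ?_ (hpP.trans (sup_le le_sup_right ?_))
    · rw [hj']
      exact le_sup_right.trans (le_sup_left (a := orbitSum F M (j + 1)))
    · exact (orbitSum_mono F M (Nat.zero_le j)).trans le_sup_left

theorem exists_le_pPow_of_slope_pos [Module.Finite L N] {F : N →ₛₗ[τ] N} (hF : Function.Bijective F)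
    {lam : ℝ} (h : Isoc.IsFirstSlope F lam) (hpos : 0 < lam) {M : Submodule W N} (hM : M.IsLattice L) :
    ∃ n, 0 < n ∧ Isoc.latImg F n M ≤ Isoc.pPow 1 M := by
  obtain ⟨o, ho, hl, -⟩ := IsFirstSlope.exists_seq hF h hM
  obtain ⟨n, hn, hn1⟩ := ((hl.eventually (lt_mem_nhds hpos)).and (eventually_ge_atTop 1)).exists
  refine ⟨n, hn1, (isOrd_iff (ho n) 1).mpr ?_⟩
  have hn' : (0 : ℝ) < n := by exact_mod_cast hn1
  have : (0 : ℝ) < (o n : ℝ) := by
    by_contra hle
    exact absurd hn (not_lt.mpr (div_nonpos_of_nonpos_of_nonneg (not_lt.mp hle) hn'.le))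
  exact_mod_cast this

theorem effective_of_slope_pos [Module.Finite L N] {F : N →ₛₗ[τ] N} (hF : Function.Bijective F)
    {lam : ℝ} (h : Isoc.IsFirstSlope F lam) (hpos : 0 < lam) : Isoc.IsEffective F := by
  obtain ⟨M, hM, -⟩ := id h
  obtain ⟨n, hn, hle⟩ := exists_le_pPow_of_slope_pos hF h hpos hM
  obtain ⟨n, rfl⟩ : ∃ m, n = m + 1 := ⟨n - 1, by omega⟩
  refine ⟨orbitSum F M n, orbitSum_isLattice hF hM n, (le_sup_right (a := M)).trans ?_⟩
  show orbitSum F M (n + 1) ≤ _
  rw [orbitSum_succ]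
  exact sup_le le_rfl ((hle.trans (pPow_anti zero_le_one M)).trans
    ((pPow_zero M).le.trans (orbitSum_mono F M (Nat.zero_le n))))

theorem effective_of_slope_ge [Module.Finite L N] {F : N →ₛₗ[τ] N} (hF : Function.Bijective F)
    {lam : ℝ} (h : Isoc.IsFirstSlope F lam) (hge : -(1 : ℝ) / (Module.finrank L N + 1) ≤ lam)
    (hnot : lam * (Module.finrank L N + 1) + 1 = 0 → False) : Isoc.IsEffective F := by
  set h' := Module.finrank L N
  have hG := isFirstSlope_norIter hF h (-1) (h' + 1)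
  have hp : (0 : ℝ) < ((h' + 1 : ℕ) : ℝ) * lam - ((-1 : ℤ) : ℝ) := by
    push_cast
    have h1 : (0 : ℝ) < (h' : ℝ) + 1 := by positivity
    rw [div_le_iff₀ h1] at hge
    rcases hge.eq_or_lt with he | hlt
    · exact (hnot (by linarith)).elim
    · linarith
  obtain ⟨M', hM', hle⟩ := effective_of_slope_pos (norIter_bijective hF _ _) hG hp
  exact effective_of_latImg_succ hF hM' (le_refl _) ((latImg_le_pPow_iff F (-1) (h' + 1) M').mpr hle)

theorem exists_lattice_of_div_le [Module.Finite L N] {F : N →ₛₗ[τ] N} (hF : Function.Bijective F)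
    {lam : ℝ} (h : Isoc.IsFirstSlope F lam) (r : ℤ) {s : ℕ} (hs : 0 < s) (hrs : (r : ℝ) / s ≤ lam) :
    ∃ M : Submodule W N, M.IsLattice L ∧ Isoc.latImg F s M ≤ Isoc.pPow r M := by
  have hG := isFirstSlope_norIter hF h r s
  have h0 : 0 ≤ (s : ℝ) * lam - r := by
    rw [div_le_iff₀ (by exact_mod_cast hs)] at hrs
    linarith
  have hp : (0 : ℝ) < (Module.finrank L N : ℝ) + 1 := by positivity
  obtain ⟨M, hM, hle⟩ := effective_of_slope_ge (norIter_bijective hF r s) hG
    (le_trans (div_nonpos_of_nonpos_of_nonneg (by norm_num) hp.le) h0) (fun he => by nlinarith)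
  exact ⟨M, hM, (latImg_le_pPow_iff F r s M).mpr hle⟩

theorem latImg_finrank_le [Module.Finite L N] {G : N →ₛₗ[τ] N} {M : Submodule W N} (hM : M.IsLattice L)
    (hG : Isoc.latImg G 1 M ≤ M) {n : ℕ} (hn : Isoc.latImg G n M ≤ Isoc.pPow 1 M) :
    Isoc.latImg G (Module.finrank L N) M ≤ Isoc.pPow 1 M := by
  set h := Module.finrank L N
  let Z : ℕ → Submodule W N := fun i => Isoc.latImg G i M ⊔ Isoc.pPow 1 M
  have hp1 : Isoc.pPow 1 M ≤ M := (pPow_anti zero_le_one M).trans (pPow_zero M).le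
  have hanti : ∀ i, Z (i + 1) ≤ Z i := fun i =>
    sup_le_sup_right (by rw [latImg_add]; exact latImg_mono hG) _
  have hZM : ∀ i, Z i ≤ M := by
    intro i
    induction i with
    | zero => exact sup_le (latImg_zero G M).le hp1
    | succ i ih => exact (hanti i).trans ih
  have hstep : ∀ i, Z (i + 1) = Isoc.latImg G 1 (Z i) ⊔ Isoc.pPow 1 M := by
    intro i
    show Isoc.latImg G (i + 1) M ⊔ _ = _
    rw [latImg_sup, ← latImg_add, add_comm 1 i, sup_assoc, sup_eq_right.mpr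
      (show Isoc.latImg G 1 (Isoc.pPow 1 M) ≤ Isoc.pPow 1 M by rw [latImg_pPow]; exact pPow_mono 1 hG)]
  obtain ⟨j, hj, hj'⟩ := exists_eq_succ_of_chain hM (fun i => Z (h + 1 - i)) h le_rfl
    (fun i _ => le_sup_right) (fun i _ => hZM _) (fun i hi => by
      have := hanti (h - i)
      rwa [show h - i + 1 = h + 1 - i by omega, show h - i = h + 1 - (i + 1) by omega] at this)
  set i₀ := h + 1 - (j + 1) with hi₀
  have he : Z (i₀ + 1) = Z i₀ := by
    rw [show i₀ + 1 = h + 1 - j by omega]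
    exact hj'
  have hconst : ∀ i, i₀ ≤ i → Z i = Z i₀ := by
    intro i hi
    induction i, hi using Nat.le_induction with
    | base => rfl
    | succ i _ ih => rw [hstep, ih, ← hstep, he]
  have h1 : Z i₀ ≤ Isoc.pPow 1 M := by
    have : Z (max n i₀) ≤ Isoc.pPow 1 M := by
      have hdec : ∀ m, n ≤ m → Z m ≤ Z n := fun m hm => by
        induction m, hm using Nat.le_induction with
        | base => rfl
        | succ m _ ih => exact (hanti m).trans ih
      exact (hdec _ (le_max_left _ _)).trans (sup_le hn le_rfl)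
    rwa [hconst _ (le_max_right _ _)] at this
  exact (le_sup_left.trans (hconst h (by omega)).le).trans h1

theorem exists_rational [Module.Finite L N] {F : N →ₛₗ[τ] N} (hF : Function.Bijective F)
    {lam : ℝ} (h : Isoc.IsFirstSlope F lam) :
    ∃ (r : ℤ) (s : ℕ) (M : Submodule W N), 0 < s ∧ s ≤ Module.finrank L N ∧ lam = (r : ℝ) / s ∧
      M.IsLattice L ∧ Isoc.IsOrd M F s r := by
  haveI := IsFirstSlope.nontrivial h
  set H := Module.finrank L N with hH
  have hH0 : 0 < H := Module.finrank_pos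
  obtain ⟨r, q, hq0, hqH, habs⟩ := Real.exists_int_int_abs_mul_sub_le lam hH0
  obtain ⟨s, rfl⟩ := Int.eq_ofNat_of_zero_le hq0.le
  have hs : 0 < s := by omega
  push_cast at habs
  rw [abs_le] at habs
  have hG := isFirstSlope_norIter hF h r s
  set G := norIter F r s
  have hGb := norIter_bijective hF r s
  set e : ℝ := (s : ℝ) * lam - r with he
  have hp : (0 : ℝ) < (H : ℝ) + 1 := by positivity
  have heff : Isoc.IsEffective G := by
    refine effective_of_latImg_succ hGb (M := ?_) ?_ (le_refl H) ?_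
    rotate_left
    · exact (exists_lattice_of_div_le hGb hG (-1) (Nat.succ_pos H) (by
        push_cast
        rw [neg_div]
        linarith [habs.1])).choose_spec.1
    · exact (exists_lattice_of_div_le hGb hG (-1) (Nat.succ_pos H) (by
        push_cast
        rw [neg_div]
        linarith [habs.1])).choose_spec.2
  have he0 : e = 0 := by
    refine le_antisymm ?_ (slope_nonneg hGb hG heff)
    by_contra hpos
    rw [not_le] at hpos
    obtain ⟨M, hM, hle⟩ := heff
    obtain ⟨n, -, hn⟩ := exists_le_pPow_of_slope_pos hGb hG hpos hM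
    have h1 := le_slope hGb hG hM (r := 1) hH0 (latImg_finrank_le hM hle hn)
    have h2 : (1 : ℝ) / ((H : ℝ) + 1) < 1 / H :=
      one_div_lt_one_div_of_lt (by exact_mod_cast hH0) (by linarith)
    push_cast at h1
    linarith [habs.2]
  obtain ⟨M, hM, hle⟩ := heff
  refine ⟨r, s, M, hs, by exact_mod_cast hqH, ?_, hM, (latImg_le_pPow_iff F r s M).mpr hle, fun hcon => ?_⟩
  · rw [eq_div_iff (by exact_mod_cast hs.ne')]
    linarith
  · have h3 := le_slope hF h hM hs hcon
    rw [div_le_iff₀ (by exact_mod_cast hs)] at h3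
    push_cast at h3
    linarith

theorem isFirstSlope_of_latImg_eq [Module.Finite L N] [Nontrivial N] {F : N →ₛₗ[τ] N}
    (hF : Function.Bijective F) {M : Submodule W N} (hM : M.IsLattice L) {r : ℤ} {s : ℕ} (hs : 0 < s)
    (heq : Isoc.latImg F s M = Isoc.pPow r M) : Isoc.IsFirstSlope F ((r : ℝ) / s) := by
  obtain ⟨o, ho, lam, hl, -⟩ := exists_slope hM hF
  have hit : ∀ j : ℕ, Isoc.latImg F (s * j) M = Isoc.pPow ((j : ℤ) * r) M := by
    intro j
    induction j with
    | zero => rw [mul_zero, latImg_zero, Nat.cast_zero, zero_mul, pPow_zero]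
    | succ j ih =>
      rw [mul_add, mul_one, latImg_add, heq, latImg_pPow, ih, pPow_pPow, Nat.cast_succ]
      congr 1
      ring
  have hval : ∀ j : ℕ, o (s * j) = j * r := by
    intro j
    refine isOrd_unique (ho (s * j)) ⟨(hit j).le, fun hle => ?_⟩
    rw [hit j, ← pPow_pPow, pPow_le_pPow_iff] at hle
    obtain ⟨x, hx, hx0⟩ := Submodule.exists_mem_ne_zero_of_ne_bot (lattice_ne_bot hM)
    obtain ⟨c, hc⟩ := exists_not_mem_pPow hM hx0
    have : ∀ i : ℕ, M ≤ Isoc.pPow (i : ℤ) M := by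
      intro i
      induction i with
      | zero => rw [Nat.cast_zero, pPow_zero]
      | succ i ih =>
        refine ih.trans ((pPow_mono _ hle).trans ?_)
        rw [pPow_pPow, Nat.cast_succ]
    have := hc _ (this (c.toNat + 1) hx)
    omega
  have h1 : Tendsto (fun n : ℕ => s * n) atTop atTop :=
    tendsto_atTop_mono (fun n => Nat.le_mul_of_pos_left n hs) tendsto_id
  obtain rfl : lam = (r : ℝ) / s := by
    refine tendsto_nhds_unique (hl.comp h1) (tendsto_const_nhds.congr' ((eventually_ge_atTop 1).mono fun n hn => ?_))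
    have hn' : (n : ℝ) ≠ 0 := by exact_mod_cast (show n ≠ 0 by omega)
    have hs' : (s : ℝ) ≠ 0 := by exact_mod_cast hs.ne'
    simp only [Function.comp_apply, hval]
    push_cast
    field_simp
  exact ⟨M, hM, o, fun n _ => ho n, hl⟩

theorem mul_rank_eq [Module.Finite L N] {F : N →ₛₗ[τ] N} (hF : Function.Bijective F) {h : ℕ}
    (b₀ : Module.Basis (Fin h) L N) {d : ℤ} (hd : Isoc.IsOrdP (detFun b₀ F) d) {M : Submodule W N}
    (hM : M.IsLattice L) {r : ℤ} {s : ℕ} (heq : Isoc.latImg F s M = Isoc.pPow r M) :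
    r * h = s * d := by
  obtain ⟨b, rfl⟩ := exists_basis hM
  have hh : Module.finrank L N = h := by simp [Module.finrank_eq_card_basis b₀]
  have h0 := isOrdP_zero_of_latImg_eq b (norIter_bijective hF r s) ((latImg_eq_pPow_iff F r s _).mp heq)
  have hdet : Isoc.IsOrdP (detFun b (norIter F r s)) ((Module.finrank L N : ℤ) * (-r) + s * d) := by
    rw [show (norIter F r s : N → N) = fun x => (p : L) ^ (-r) • (⇑F)^[s] x from rfl, detFun_smul]
    exact isOrdP_mul (isOrdP_pow (isOrdP_zpow (-r)) _)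
      (isOrdP_detFun_iterate b F (isOrdP_detFun_basis' b₀ b hd) s)
  have := isOrdP_unique h0 hdet
  rw [hh] at this
  linarith

theorem exists_lattice_eq_of_slope_eq [Module.Finite L N] {F : N →ₛₗ[τ] N} (hF : Function.Bijective F)
    {h : ℕ} (b₀ : Module.Basis (Fin h) L N) {d : ℤ} (hd : Isoc.IsOrdP (detFun b₀ F) d)
    {r : ℤ} {s : ℕ} (hs : 0 < s) (hl : Isoc.IsFirstSlope F ((r : ℝ) / s)) (hrd : r * h = s * d) :
    ∃ M : Submodule W N, M.IsLattice L ∧ Isoc.latImg F s M = Isoc.pPow r M := by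
  obtain ⟨M, hM, hle⟩ := exists_lattice_of_div_le hF hl r hs le_rfl
  refine ⟨M, hM, (latImg_eq_pPow_iff F r s M).mpr ?_⟩
  have hG := (latImg_le_pPow_iff F r s M).mp hle
  obtain ⟨b, rfl⟩ := exists_basis hM
  have hh : Module.finrank L N = h := by simp [Module.finrank_eq_card_basis b₀]
  refine latImg_eq_of_isOrdP_zero b hG ?_
  have hdet : Isoc.IsOrdP (detFun b (norIter F r s)) ((Module.finrank L N : ℤ) * (-r) + s * d) := by
    rw [show (norIter F r s : N → N) = fun x => (p : L) ^ (-r) • (⇑F)^[s] x from rfl, detFun_smul]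
    exact isOrdP_mul (isOrdP_pow (isOrdP_zpow (-r)) _)
      (isOrdP_detFun_iterate b F (isOrdP_detFun_basis' b₀ b hd) s)
  have e : (Module.finrank L N : ℤ) * (-r) + s * d = 0 := by rw [hh]; linarith
  rwa [e] at hdet

end Groth.Agent.IsocLib
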